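import Cfsg.Agent.Lib.KnownSimple.CharTwoInv.InvolData
import Cfsg.Agent.Lib.KnownSimple.OrthOmega

/-!
Classes of involutions of symplectic and orthogonal groups in characteristic two.
-/

set_option autoImplicit false

namespace CfsgLib.KnownSimple.CharTwoInv

open CfsgLib.Classical

section Counting

/-- Counting classes of involutions by an invariant. -/
theorem card_classes {G α σ : Type*} [Group G] (τ : G → α) (ty : σ → α) (hty : Function.Injective ty)
    (hinv : ∀ g h : G, orderOf g = 2 → IsConj g h → τ g = τ h)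
    (hinj : ∀ g h : G, orderOf g = 2 → orderOf h = 2 → τ g = τ h → IsConj g h)
    (hsurj : ∀ g : G, orderOf g = 2 → ∃ x, τ g = ty x)
    (hex : ∀ x, ∃ g : G, orderOf g = 2 ∧ τ g = ty x) :
    Nat.card {C : ConjClasses G // ∃ g : G, ConjClasses.mk g = C ∧ orderOf g = 2} = Nat.card σ := by
  choose g hg hgt using hex
  refine (Nat.card_eq_of_bijective (fun x => ⟨ConjClasses.mk (g x), g x, rfl, hg x⟩) ⟨?_, ?_⟩).symm
  · intro x y e
    have e' := ConjClasses.mk_eq_mk_iff_isConj.1 (congrArg Subtype.val e)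
    exact hty (by rw [← hgt, ← hgt, hinv _ _ (hg x) e'])
  · rintro ⟨C, k, rfl, hk⟩
    obtain ⟨x, hx⟩ := hsurj k hk
    exact ⟨x, Subtype.ext (ConjClasses.mk_eq_mk_iff_isConj.2
      (hinj _ _ (hg x) hk ((hgt x).trans hx.symm)))⟩

/-- Class counts are invariant under isomorphisms. -/
theorem card_classes_congr {G H : Type*} [Group G] [Group H] (e : G ≃* H) :
    Nat.card {C : ConjClasses G // ∃ g : G, ConjClasses.mk g = C ∧ orderOf g = 2} =
      Nat.card {C : ConjClasses H // ∃ g : H, ConjClasses.mk g = C ∧ orderOf g = 2} := by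
  refine Nat.card_eq_of_bijective
    (fun C => ⟨ConjClasses.map e.toMonoidHom C.1, ?_⟩) ⟨?_, ?_⟩
  · obtain ⟨g, hg, ho⟩ := C.2
    exact ⟨e g, by rw [← hg]; rfl, (orderOf_injective e.toMonoidHom e.injective g).trans ho⟩
  · rintro ⟨_, g, rfl, hg⟩ ⟨_, h, rfl, hh⟩ he
    refine Subtype.ext (ConjClasses.mk_eq_mk_iff_isConj.2 ?_)
    have h' : IsConj (e g) (e h) := ConjClasses.mk_eq_mk_iff_isConj.1 (congrArg Subtype.val he)
    have := e.symm.toMonoidHom.map_isConj h'
    simpa using this
  · rintro ⟨_, h, rfl, hh⟩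
    refine ⟨⟨ConjClasses.mk (e.symm h), e.symm h, rfl,
      (orderOf_injective e.symm.toMonoidHom e.symm.injective h).trans hh⟩, Subtype.ext ?_⟩
    show ConjClasses.mk (e (e.symm h)) = ConjClasses.mk h
    rw [e.apply_symm_apply]

end Counting

variable {F V : Type*} [Field F] [CharP F 2] [AddCommGroup V] [Module F V] [FiniteDimensional F V]

theorem isotropic_card_le {B : LinearMap.BilinForm F V} (hA : B.IsAlt) (hB : B.Nondegenerate) {s : ℕ}
    {u : Fin s → V} (hu : LinearIndependent F u) (hiso : ∀ i j, B (u i) (u j) = 0) :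
    2 * s ≤ Module.finrank F V := by
  have hle : Submodule.span F (Set.range u) ≤
      LinearMap.BilinForm.orthogonal B (Submodule.span F (Set.range u)) := by
    rw [Submodule.span_le]
    rintro _ ⟨j, rfl⟩
    intro x hx
    show B x (u j) = 0
    induction hx using Submodule.span_induction with
    | mem y hy => obtain ⟨i, rfl⟩ := hy; exact hiso i j
    | zero => simp
    | add y z _ _ hy hz => simp [hy, hz]
    | smul a y _ hy => simp [hy]
  have h1 := Submodule.finrank_mono hle
  rw [LinearMap.BilinForm.finrank_orthogonal hB, finrank_span_eq_card hu, Fintype.card_fin] at h1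
  omega

section Quad

variable {Q : QuadraticForm F V}

/-- The type `(rank, alternating)`. -/
noncomputable def qType (g : qAut Q) : ℕ × Prop :=
  (qRank Q g, ∀ v, QuadraticMap.polar Q v (g.1 v) = 0)

omit [FiniteDimensional F V] in
theorem polar_alt : (QuadraticMap.polarBilin Q).IsAlt := fun v => by
  show QuadraticMap.polar Q v v = 0
  rw [quad_polar_self, CharTwo.two_eq_zero, zero_mul]

omit [FiniteDimensional F V] in
theorem qRank_eq (g : qAut Q) :
    qRank Q g = Module.finrank F (LinearMap.range (g.1.toLinearMap + LinearMap.id)) := by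
  rw [qRank, show g.1.toLinearMap - LinearMap.id = g.1.toLinearMap + LinearMap.id from
    LinearMap.ext fun x => by
      show g.1 x - x = g.1 x + x
      rw [sub_eq_add_neg, show -x = x by
        rw [← neg_one_smul F x, CharTwo.neg_eq, one_smul]]]

omit [FiniteDimensional F V] in
/-- On the image of `g + 1` the form is given by the coefficient form. -/
theorem quad_tLin {g : qAut Q} {s : ℕ} {u : Fin s → V} {c : Fin s → Fin s → F}
    (h : IsData (QuadraticMap.polarBilin Q) g.1.toLinearMap u c) (x : V) :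
    Q (tLin (QuadraticMap.polarBilin Q) u c x) =
      cForm c (coords (QuadraticMap.polarBilin Q) u x) (coords (QuadraticMap.polarBilin Q) u x) := by
  rw [← tLin_form]
  show _ = QuadraticMap.polar Q x _
  have h1 := qAut_map g x
  rw [show g.1 x = x + tLin (QuadraticMap.polarBilin Q) u c x from h.eq x, quad_add, add_assoc,
    add_eq_left] at h1
  exact CharTwo.add_eq_zero.1 h1

theorem exists_data_of_involution (hQ : PolarNondeg Q) {g : qAut Q} (hg : g * g = 1) :
    ∃ (u : Fin (qRank Q g) → V) (c : Fin (qRank Q g) → Fin (qRank Q g) → F),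
      IsData (QuadraticMap.polarBilin Q) g.1.toLinearMap u c := by
  rw [qRank_eq]
  exact exists_isData polar_alt hQ.nondegenerate g.1.toLinearMap (qAut_polar g)
    fun x => by
      show g.1 (g.1 x) = x
      rw [← qAut_mul_apply, hg]; rfl

omit [FiniteDimensional F V] in
theorem quad_sum_iso {s : ℕ} {u : Fin s → V}
    (hu : ∀ i j, QuadraticMap.polar Q (u i) (u j) = 0) (a : Fin s → F) :
    Q (∑ i, a i • u i) = ∑ i, a i * a i * Q (u i) := by
  classical
  suffices H : ∀ S : Finset (Fin s), Q (∑ i ∈ S, a i • u i) = ∑ i ∈ S, a i * a i * Q (u i) from H _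
  intro S
  induction S using Finset.induction_on with
  | empty => simp
  | insert i S hi ih =>
    have hp : QuadraticMap.polar Q (a i • u i) (∑ j ∈ S, a j • u j) = 0 := by
      rw [← QuadraticMap.polarBilin_apply_apply, map_sum]
      exact Finset.sum_eq_zero fun j _ => by simp [hu]
    rw [Finset.sum_insert hi, Finset.sum_insert hi, quad_add, quad_smul, ih, hp, add_zero]

variable [Finite F]

/-- Involutions of equal type are conjugate. -/
theorem isConj_of_type (hQ : PolarNondeg Q) {g h : qAut Q} (hg : g * g = 1) (hh : h * h = 1)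
    (ht : qType g = qType h) : ∃ k : qAut Q, k * g = h * k := by
  obtain ⟨hs, ha⟩ := Prod.mk.injEq .. ▸ ht
  obtain ⟨u₀, c₀, h₀⟩ := exists_data_of_involution hQ hg
  obtain ⟨u₁, c₁, h₁⟩ := exists_data_of_involution hQ hh
  obtain ⟨s, hs'⟩ : ∃ s, qRank Q g = s := ⟨_, rfl⟩
  have hs1 : qRank Q h = s := hs.symm.trans hs'
  revert u₀ c₀ u₁ c₁
  rw [hs', hs1]
  intro u₀ c₀ h₀ u₁ c₁ h₁
  have key : ∃ (c : Fin s → Fin s → F) (u w : Fin s → V),
      IsData (QuadraticMap.polarBilin Q) g.1.toLinearMap u c ∧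
      IsData (QuadraticMap.polarBilin Q) h.1.toLinearMap w c := by
    rcases exists_standard polar_alt hQ.nondegenerate h₀ with ⟨hga, -, u, hu⟩ | ⟨⟨v, hv⟩, u, hu⟩ <;>
      rcases exists_standard polar_alt hQ.nondegenerate h₁ with ⟨hha, -, w, hw⟩ | ⟨⟨v', hv'⟩, w, hw⟩
    · exact ⟨_, u, w, hu, hw⟩
    · exact absurd ((ha ▸ hga : ∀ v, QuadraticMap.polar Q v (h.1 v) = 0) v') hv'
    · exact absurd ((ha.symm ▸ hha : ∀ v, QuadraticMap.polar Q v (g.1 v) = 0) v) hv
    · exact ⟨_, u, w, hu, hw⟩
  obtain ⟨c, u, w, hu, hw⟩ := key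
  let bb := Module.Basis.span hu.li
  let φ : Submodule.span F (Set.range u) →ₗ[F] V := bb.constr F w
  have hφb : ∀ i, φ (bb i) = w i := fun i => bb.constr_basis F w i
  have hbb : ∀ i, ((bb i : Submodule.span F (Set.range u)) : V) = u i := fun i => by
    simp [bb, Module.Basis.span_apply]
  have hrep : ∀ x : Submodule.span F (Set.range u), (x : V) = ∑ i, bb.repr x i • u i := fun x => by
    have := congrArg Subtype.val (bb.sum_repr x)
    rw [Submodule.coe_sum] at this
    simp only [Submodule.coe_smul, hbb] at this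
    exact this.symm
  have hφ : ∀ x, φ x = ∑ i, bb.repr x i • w i := fun x => by
    conv_lhs => rw [← bb.sum_repr x]
    rw [map_sum]
    simp only [map_smul, hφb]
  have hinj : Function.Injective φ := (injective_iff_map_eq_zero φ).2 fun x hx => by
    rw [hφ] at hx
    have h := Fintype.linearIndependent_iff.1 hw.li _ hx
    exact Subtype.ext (by rw [hrep]; simp [h])
  have hQu : ∀ i, Q (u i) = Q (w i) := by
    intro i
    have hmem : u i ∈ LinearMap.range (tLin (QuadraticMap.polarBilin Q) u c) := by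
      rw [hu.range_eq hQ.nondegenerate]; exact Submodule.subset_span ⟨i, rfl⟩
    obtain ⟨x, hx⟩ := hmem
    obtain ⟨y, hy⟩ := exists_coords hQ.nondegenerate hw.li (coords (QuadraticMap.polarBilin Q) u x)
    have hy' : tLin (QuadraticMap.polarBilin Q) w c y = w i := by
      have e : tLin (QuadraticMap.polarBilin Q) u c x =
          ∑ j, (∑ k, coords (QuadraticMap.polarBilin Q) u x k * c k j) • u j := by
        rw [tLin_apply, Finset.sum_comm]; simp [Finset.sum_smul, coords]
      rw [hx] at e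
      have hcoef := Fintype.linearIndependent_iff.1 hu.li
        (fun j => (∑ k, coords (QuadraticMap.polarBilin Q) u x k * c k j) - if j = i then 1 else 0)
        (by simp [sub_smul, ← e])
      rw [tLin_apply, Finset.sum_comm]
      simp only [← Finset.sum_smul]
      have e2 : ∀ j, ∑ k, (QuadraticMap.polarBilin Q y (w k) * c k j) = if j = i then 1 else 0 := fun j => by
        rw [← sub_eq_zero.1 (hcoef j), ← hy]; rfl
      have e2' : ∀ j, ∑ k, (QuadraticMap.polar Q y (w k) * c k j) = if j = i then 1 else 0 := e2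
      simp only [QuadraticMap.polarBilin_apply_apply, e2', ite_smul, one_smul, zero_smul]
      rw [Finset.sum_ite_eq' Finset.univ i w, if_pos (Finset.mem_univ i)]
    rw [← hx, ← hy', quad_tLin hu, quad_tLin hw, hy]
  obtain ⟨k, hk, hka⟩ := witt_quad Q hQ _ φ hinj (fun x => by
    rw [hφ, hrep x, quad_sum_iso hw.iso, quad_sum_iso hu.iso]
    exact Finset.sum_congr rfl fun i _ => by rw [hQu])
  refine ⟨⟨k, hk⟩, qAut_ext fun x => ?_⟩
  exact hu.conj hw k (fun x y => qAut_polar ⟨k, hk⟩ x y) (fun i => by rw [← hbb, hka, hφb]) x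

omit [Finite F] in
theorem qType_conj (k g : qAut Q) : qType (k * g * k⁻¹) = qType g := by
  have hap : ∀ x, (k * g * k⁻¹).1 (k.1 x) = k.1 (g.1 x) := fun x => by
    rw [← qAut_mul_apply, inv_mul_cancel_right, qAut_mul_apply]
  refine Prod.ext ?_ (propext ⟨fun h v => ?_, fun h v => ?_⟩)
  · show qRank Q (k * g * k⁻¹) = qRank Q g
    rw [qRank, qRank, ← LinearEquiv.finrank_map_eq k.1 (LinearMap.range (g.1.toLinearMap - LinearMap.id))]
    have : ((k * g * k⁻¹).1.toLinearMap - LinearMap.id) ∘ₗ k.1.toLinearMap =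
        k.1.toLinearMap ∘ₗ (g.1.toLinearMap - LinearMap.id) := LinearMap.ext fun x => by
      show (k * g * k⁻¹).1 (k.1 x) - k.1 x = k.1 (g.1 x - x)
      rw [hap, map_sub]
    rw [show LinearMap.range ((k * g * k⁻¹).1.toLinearMap - LinearMap.id) =
      LinearMap.range (((k * g * k⁻¹).1.toLinearMap - LinearMap.id) ∘ₗ k.1.toLinearMap) from
      (LinearMap.range_comp_of_range_eq_top _ (LinearEquiv.range k.1)).symm, this, LinearMap.range_comp]
  · have h1 := h (k.1 v)
    rwa [hap, qAut_polar] at h1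
  · obtain ⟨w, rfl⟩ := k.1.surjective v
    rw [hap, qAut_polar]
    exact h w

omit [Finite F] in
theorem qType_of_isConj {g h : qAut Q} (hc : IsConj g h) : qType g = qType h := by
  obtain ⟨k, rfl⟩ := isConj_iff.1 hc
  exact (qType_conj k g).symm

omit [Finite F] in
theorem qRank_pos {g : qAut Q} (hg : g ≠ 1) : 1 ≤ qRank Q g := by
  by_contra h0
  refine hg (qAut_ext fun x => ?_)
  have : LinearMap.range (g.1.toLinearMap - LinearMap.id) = ⊥ :=
    Submodule.finrank_eq_zero.1 (by rw [qRank] at h0; omega)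
  exact sub_eq_zero.1 (LinearMap.congr_fun (LinearMap.range_eq_bot.1 this) x)

omit [Finite F] in
theorem mul_self_of_order_two {g : qAut Q} (hg : orderOf g = 2) : g * g = 1 := by
  rw [← sq, ← hg, pow_orderOf_eq_one]

/-- A form with isotropic frames of value one of all sizes `≤ m` and singular ones exactly up to `b`. -/
structure Frames (Q : QuadraticForm F V) (m b : ℕ) : Prop where
  nd : PolarNondeg Q
  dim : Module.finrank F V = 2 * m
  le : b ≤ m
  one : ∀ s ≤ m, ∃ u : Fin s → V, LinearIndependent F u ∧ (∀ i j, QuadraticMap.polar Q (u i) (u j) = 0) ∧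
    ∀ i, Q (u i) = 1
  zero : ∀ s ≤ b, ∃ u : Fin s → V, LinearIndependent F u ∧ ∀ a : Fin s → F, Q (∑ i, a i • u i) = 0
  maxi : ∀ U : Submodule F V, (∀ x ∈ U, Q x = 0) → Module.finrank F U ≤ b

omit [Finite F] in
theorem Frames.bounds {m b : ℕ} (hF : Frames Q m b) {g : qAut Q} (hg : orderOf g = 2) :
    1 ≤ qRank Q g ∧ qRank Q g ≤ m ∧
      ((∀ v, QuadraticMap.polar Q v (g.1 v) = 0) → Even (qRank Q g) ∧ qRank Q g ≤ b) := by
  have hg1 : g ≠ 1 := fun e => by rw [e, orderOf_one] at hg; omega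
  obtain ⟨u, c, h⟩ := exists_data_of_involution hF.nd (mul_self_of_order_two hg)
  have h2 := isotropic_card_le polar_alt hF.nd.nondegenerate h.li h.iso
  rw [hF.dim] at h2
  refine ⟨qRank_pos hg1, by omega, fun ha => ?_⟩
  have hc := (h.alt_iff polar_alt hF.nd.nondegenerate).1 ha
  refine ⟨even_of_alt h.nd hc, ?_⟩
  have h3 := hF.maxi (Submodule.span F (Set.range u)) fun x hx => by
    rw [← h.range_eq hF.nd.nondegenerate] at hx
    obtain ⟨y, rfl⟩ := hx
    rw [quad_tLin h, hc]
  rwa [finrank_span_eq_card h.li, Fintype.card_fin] at h3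

omit [Finite F] in
theorem exists_involution (hQ : PolarNondeg Q) {s : ℕ} (hs : 1 ≤ s) (u : Fin s → V)
    (c : Fin s → Fin s → F) (hu : LinearIndependent F u)
    (huu : ∀ i j, QuadraticMap.polar Q (u i) (u j) = 0) (hcs : ∀ a b, cForm c a b = cForm c b a)
    (hcn : ∀ a, (∀ b, cForm c a b = 0) → a = 0)
    (hcQ : ∀ a : Fin s → F, Q (∑ j, (∑ i, a i * c i j) • u j) = cForm c a a) :
    ∃ g : qAut Q, orderOf g = 2 ∧ qRank Q g = s ∧
      ((∀ v, QuadraticMap.polar Q v (g.1 v) = 0) ↔ ∀ a, cForm c a a = 0) ∧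
      LinearMap.range (g.1.toLinearMap - LinearMap.id) = Submodule.span F (Set.range u) := by
  obtain ⟨t, ht⟩ := exists_of_frame (B := QuadraticMap.polarBilin Q) u c hu huu hcs hcn
  have hq : ∀ x, Q (t x) = Q x := fun x => by
    have e : t x = x + tLin (QuadraticMap.polarBilin Q) u c x := ht.eq x
    rw [e, quad_add, add_assoc, add_eq_left]
    have e2 : tLin (QuadraticMap.polarBilin Q) u c x =
        ∑ j, (∑ i, coords (QuadraticMap.polarBilin Q) u x i * c i j) • u j := by
      rw [tLin_apply, Finset.sum_comm]; simp [Finset.sum_smul, coords]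
    rw [show QuadraticMap.polar Q x (tLin (QuadraticMap.polarBilin Q) u c x) = _ from
      tLin_form (QuadraticMap.polarBilin Q) u c x x, e2, hcQ, CharTwo.add_self_eq_zero]
  let g : qAut Q := ⟨t, hq⟩
  have hd : IsData (QuadraticMap.polarBilin Q) g.1.toLinearMap u c := ht
  have hr : qRank Q g = s := by rw [qRank_eq, hd.rank hQ.nondegenerate]
  have hrange : LinearMap.range (g.1.toLinearMap - LinearMap.id) = Submodule.span F (Set.range u) := by
    rw [← hd.range_eq hQ.nondegenerate]
    congr 1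
    exact LinearMap.ext fun x => by
      show g.1 x - x = _
      rw [show g.1 x = x + tLin (QuadraticMap.polarBilin Q) u c x from hd.eq x, add_sub_cancel_left]
  refine ⟨g, orderOf_eq_prime ?_ fun e => ?_, hr, hd.alt_iff polar_alt hQ.nondegenerate, hrange⟩
  · rw [sq]
    exact qAut_ext fun x => hd.involutive x
  · rw [e, qRank_one] at hr
    omega

omit [Finite F] in
theorem Frames.exists_nonalt {m b : ℕ} (hF : Frames Q m b) {s : ℕ} (h1 : 1 ≤ s) (hs : s ≤ m) :
    ∃ g : qAut Q, orderOf g = 2 ∧ qRank Q g = s ∧ ¬ ∀ v, QuadraticMap.polar Q v (g.1 v) = 0 := by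
  obtain ⟨u, hu, huu, hu1⟩ := hF.one s hs
  obtain ⟨c1, c2, c3⟩ := cOne_props (F := F) s
  obtain ⟨g, hg, hr, ha, -⟩ := exists_involution hF.nd h1 u (cOne F s) hu huu c1 c2 fun a => by
    rw [quad_sum_iso huu, cForm_apply]
    simp [hu1, cOne]
  refine ⟨g, hg, hr, fun h => ?_⟩
  obtain ⟨a, haa⟩ := c3 h1
  exact haa (ha.1 h a)

omit [Finite F] in
theorem Frames.exists_alt {m b : ℕ} (hF : Frames Q m b) {s : ℕ} (h1 : 1 ≤ s) (he : Even s) (hs : s ≤ b) :
    ∃ g : qAut Q, orderOf g = 2 ∧ qRank Q g = s ∧ ∀ v, QuadraticMap.polar Q v (g.1 v) = 0 := by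
  obtain ⟨u, hu, hu0⟩ := hF.zero s hs
  obtain ⟨c1, c2, c3⟩ := cAlt_props (F := F) he
  have hz : ∀ x ∈ Submodule.span F (Set.range u), Q x = 0 := fun x hx => by
    obtain ⟨a, rfl⟩ := (Submodule.mem_span_range_iff_exists_fun F).1 hx
    exact hu0 a
  obtain ⟨g, hg, hr, ha, -⟩ := exists_involution hF.nd h1 u (cAlt F s) hu
    (fun i j => polar_eq_zero_of_singular hz (Submodule.subset_span ⟨i, rfl⟩) (Submodule.subset_span ⟨j, rfl⟩))
    c1 c2 fun a => by rw [hu0, c3]
  exact ⟨g, hg, hr, ha.2 c3⟩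

/-- Classes of involutions of the whole orthogonal group. -/
theorem Frames.card_classes {m b : ℕ} (hF : Frames Q m b) :
    Nat.card {C : ConjClasses (qAut Q) // ∃ g : qAut Q, ConjClasses.mk g = C ∧ orderOf g = 2} = m + b / 2 := by
  have := CharTwoInv.card_classes (G := qAut Q) qType
    (fun x : Fin m ⊕ Fin (b / 2) => Sum.elim (fun i : Fin m => ((i : ℕ) + 1, False))
      (fun i : Fin (b / 2) => (2 * ((i : ℕ) + 1), True)) x) ?_ (fun g h _ hc => qType_of_isConj hc) ?_ ?_ ?_
  · rw [this, Nat.card_sum, Nat.card_fin, Nat.card_fin]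
  · rintro (i | i) (j | j) e <;> simp [Fin.ext_iff] at e ⊢ <;> omega
  · intro g h hg hh e
    obtain ⟨k, hk⟩ := isConj_of_type hF.nd (mul_self_of_order_two hg) (mul_self_of_order_two hh) e
    exact isConj_iff.2 ⟨k, by rw [hk, mul_inv_cancel_right]⟩
  · intro g hg
    obtain ⟨h1, h2, h3⟩ := hF.bounds hg
    by_cases ha : ∀ v, QuadraticMap.polar Q v (g.1 v) = 0
    · obtain ⟨⟨r, hr⟩, hb⟩ := h3 ha
      exact ⟨.inr ⟨r - 1, by omega⟩, Prod.ext (by show qRank Q g = 2 * (r - 1 + 1); omega)
        (propext ⟨fun _ => trivial, fun _ => ha⟩)⟩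
    · exact ⟨.inl ⟨qRank Q g - 1, by omega⟩, Prod.ext (by show qRank Q g = qRank Q g - 1 + 1; omega)
        (propext ⟨fun h => ha h, False.elim⟩)⟩
  · rintro (i | i)
    · obtain ⟨g, hg, hr, ha⟩ := hF.exists_nonalt (s := (i : ℕ) + 1) (by omega) (by omega)
      exact ⟨g, hg, Prod.ext hr (propext ⟨fun h => ha h, False.elim⟩)⟩
    · obtain ⟨g, hg, hr, ha⟩ := hF.exists_alt (s := 2 * ((i : ℕ) + 1)) (by omega) ⟨(i : ℕ) + 1, by omega⟩
        (by have := i.2; have := Nat.div_mul_le_self b 2; omega)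
      exact ⟨g, hg, Prod.ext hr (propext ⟨fun _ => trivial, fun _ => ha⟩)⟩

end Quad

end CfsgLib.KnownSimple.CharTwoInv
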