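import Cfsg.Agent.Lib.KnownSimple.CharTwoInv.InvolOmega

/-!
Conjugacy of involutions of orthogonal groups in characteristic two, in the matrix groups.
-/

set_option autoImplicit false

namespace CfsgLib.KnownSimple.CharTwoInv

open Matrix Cfsg CfsgLib.Classical

section Space

variable {F V : Type*} [Field F] [CharP F 2] [AddCommGroup V] [Module F V] [FiniteDimensional F V]
  {Q : QuadraticForm F V}

omit [FiniteDimensional F V] in
theorem quad_add_image (g : qAut Q) (v : V) : Q (v + g.1 v) = QuadraticMap.polar Q v (g.1 v) := by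
  rw [quad_add, qAut_map, CharTwo.add_self_eq_zero, zero_add]

omit [FiniteDimensional F V] in
/-- Conjugacy under maps preserving only the polar form preserves the type. -/
theorem qType_of_polar_conj {g h : qAut Q} (e : V ≃ₗ[F] V)
    (he : ∀ x y, QuadraticMap.polar Q (e x) (e y) = QuadraticMap.polar Q x y)
    (hc : ∀ x, e (g.1 x) = h.1 (e x)) : qType g = qType h := by
  refine Prod.ext ?_ (propext ⟨fun ha v => ?_, fun ha v => ?_⟩)
  · show qRank Q g = qRank Q h
    rw [qRank, qRank, ← LinearEquiv.finrank_map_eq e (LinearMap.range (g.1.toLinearMap - LinearMap.id)),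
      ← LinearMap.range_comp,
      show e.toLinearMap ∘ₗ (g.1.toLinearMap - LinearMap.id) = (h.1.toLinearMap - LinearMap.id) ∘ₗ e.toLinearMap from
        LinearMap.ext fun x => by
          show e (g.1 x - x) = h.1 (e x) - e x
          rw [map_sub, hc],
      LinearMap.range_comp_of_range_eq_top _ (LinearEquiv.range e)]
  · obtain ⟨w, rfl⟩ := e.surjective v
    rw [← hc, he]
    exact ha w
  · have h1 := ha (e v)
    rwa [← hc, he] at h1

variable [Fintype F]

/-- Conjugacy in the commutator subgroup away from the maximal alternating type. -/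
theorem exists_comm_conj (hQ : PolarNondeg Q) (hgen : reflGroup Q = ⊤) {m : ℕ}
    (hV : Module.finrank F V = 2 * m) (hm : 1 ≤ m) {g h k : qAut Q} (hg : g * g = 1) (hk : k * g = h * k)
    (hmx : ¬ ((∀ v, QuadraticMap.polar Q v (g.1 v) = 0) ∧ m ≤ qRank Q g)) :
    ∃ k' ∈ commutator (qAut Q), k' * g = h * k' := by
  by_cases hkc : k ∈ commutator (qAut Q)
  · exact ⟨k, hkc, hk⟩
  obtain ⟨v, hv, hgv⟩ := exists_fixed_nonsingular hQ hV hg hmx
  have hmem := mem_commutator_iff_even_rank hQ hgen (by rw [hV]; omega)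
  refine ⟨k * qRefl Q hv, ?_, ?_⟩
  · obtain ⟨D, hD, hD1⟩ := exists_parity_hom Q hQ hgen
    have hiff : ∀ x, x ∈ commutator (qAut Q) ↔ D x = 1 := fun x => by
      rw [hmem, hD, ← ofAdd_zero, Multiplicative.ofAdd.injective.eq_iff, ZMod.natCast_eq_zero_iff_even]
    rw [hiff] at hkc ⊢
    rw [map_mul, hD1]
    rcases (by decide : ∀ x : Multiplicative (ZMod 2), x = 1 ∨ x = Multiplicative.ofAdd 1) (D k) with e2 | e2
    · exact absurd e2 hkc
    · rw [e2]; decide
  · have hcomm : g * qRefl Q hv = qRefl Q hv * g := by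
      have h1 := qRefl_conj Q g hv (by rw [hgv]; exact hv)
      rw [mul_inv_eq_iff_eq_mul] at h1
      rw [h1]
      congr 1
      exact qAut_ext fun x => by rw [qRefl_apply, qRefl_apply, hgv]
    rw [mul_assoc, ← hcomm, ← mul_assoc, hk, mul_assoc]

/-- Conjugacy in the commutator subgroup of the maximal alternating type. -/
theorem exists_comm_conj_iff (hQ : PolarNondeg Q) {m : ℕ} (hV : Module.finrank F V = 2 * m) (hm : 1 ≤ m)
    (hex : Fintype.card F ≠ 2 ∨ Module.finrank F V ≠ 4) {g h k : qAut Q} (hg : g * g = 1) (hk : k * g = h * k)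
    (ha : ∀ v, QuadraticMap.polar Q v (g.1 v) = 0) (hr : qRank Q g = m) :
    (∃ k' ∈ commutator (qAut Q), k' * g = h * k') ↔ Even (m - Module.finrank F ↥(inRange g ⊓ inRange h)) := by
  obtain ⟨hd, hs⟩ := inRange_singular hQ hg ha
  have key : ∀ c : qAut Q, c * g = h * c →
      (c ∈ commutator (qAut Q) ↔ Even (m - Module.finrank F ↥(inRange g ⊓ inRange h))) := fun c hc => by
    rw [OrthOmega.mem_commutator_iff_class hQ hV (hd.trans hr) hs hm hex c, ← inRange_conj,
      show c * g * c⁻¹ = h by rw [hc, mul_inv_cancel_right]]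
  exact ⟨fun ⟨c, hc, hcg⟩ => (key c hcg).1 hc, fun he => ⟨k, (key k hk).2 he, hk⟩⟩

end Space

section Coordinates

variable {F : Type*} [Field F] [CharP F 2] {ι : Type} [Fintype ι] [DecidableEq ι]
  {Q : QuadraticForm F (ι → F)}

/-- The matrix of an isometry. -/
abbrev isoMat (t : isometryGroup F ⇑Q) : Matrix ι ι F := ((t : GL ι F) : Matrix ι ι F)

omit [CharP F 2] in
theorem isoEquiv_apply' (t : isometryGroup F ⇑Q) (x : ι → F) : (isoEquiv Q t).1 x = isoMat t *ᵥ x := rfl

omit [CharP F 2] in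
theorem rank_sub_one (t : isometryGroup F ⇑Q) : (isoMat t - 1).rank = qRank Q (isoEquiv Q t) := by
  rw [Matrix.rank, qRank, show (isoMat t - 1).mulVecLin = (isoEquiv Q t).1.toLinearMap - LinearMap.id from
    LinearMap.ext fun x => by
      show (isoMat t - 1) *ᵥ x = isoMat t *ᵥ x - x
      rw [Matrix.sub_mulVec, Matrix.one_mulVec]]

omit [CharP F 2] in
theorem sq_one (t : isometryGroup F ⇑Q) (ht : orderOf t = 2) : isoEquiv Q t * isoEquiv Q t = 1 := by
  rw [← map_mul, ← sq, ← ht, pow_orderOf_eq_one, map_one]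

variable [Fintype F]

theorem isConj_iff_polar_conj (hQ : PolarNondeg Q) (t s : isometryGroup F ⇑Q) (ht : orderOf t = 2)
    (hs : orderOf s = 2) :
    IsConj t s ↔ ∃ g ∈ Cfsg.preserving (Units.coeHom (Matrix ι ι F)) (fun u v => Q (u + v) - Q u - Q v),
      g * (t : GL ι F) * g⁻¹ = (s : GL ι F) := by
  constructor
  · intro h
    obtain ⟨c, hc⟩ := isConj_iff.1 h
    refine ⟨c.1, fun u v => ?_, congrArg Subtype.val hc⟩
    simp only [Units.coeHom_apply, ← Matrix.mulVec_add]
    rw [show Q ((c.1 : Matrix ι ι F) *ᵥ (u + v)) = Q (u + v) from c.2 (u + v) (u + v),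
      show Q ((c.1 : Matrix ι ι F) *ᵥ u) = Q u from c.2 u u,
      show Q ((c.1 : Matrix ι ι F) *ᵥ v) = Q v from c.2 v v]
  · rintro ⟨g, hg, hgt⟩
    let e : (ι → F) ≃ₗ[F] (ι → F) := LinearMap.GeneralLinearGroup.generalLinearEquiv F _
      (Matrix.GeneralLinearGroup.toLin g)
    have he : ∀ x, e x = (g : Matrix ι ι F) *ᵥ x := fun x => rfl
    have htype := qType_of_polar_conj (g := isoEquiv Q t) (h := isoEquiv Q s) e
      (fun x y => by simpa [QuadraticMap.polar, he] using hg x y) fun x => by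
        rw [isoEquiv_apply', isoEquiv_apply', he, he, Matrix.mulVec_mulVec, Matrix.mulVec_mulVec, isoMat, isoMat,
          ← Units.val_mul, ← Units.val_mul, ← hgt, inv_mul_cancel_right]
    obtain ⟨k, hk⟩ := isConj_of_type hQ (sq_one t ht) (sq_one s hs) htype
    have := (isoEquiv Q).symm.toMonoidHom.map_isConj (isConj_iff.2 ⟨k, by rw [hk, mul_inv_cancel_right]⟩ :
      IsConj (isoEquiv Q t) (isoEquiv Q s))
    simpa using this

theorem mem_omega_iff (t : isometryGroup F ⇑Q) :
    t ∈ Omega F ⇑Q ↔ isoEquiv Q t ∈ commutator (qAut Q) := by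
  rw [← map_commutator_equiv (isoEquiv Q)]
  exact ⟨fun h => ⟨t, h, rfl⟩, fun ⟨u, hu, e⟩ => (isoEquiv Q).injective e ▸ hu⟩

theorem exists_omega_conj_iff (t s : isometryGroup F ⇑Q) :
    (∃ g ∈ Omega F ⇑Q, g * t * g⁻¹ = s) ↔
      ∃ k ∈ commutator (qAut Q), k * isoEquiv Q t = isoEquiv Q s * k := by
  constructor
  · rintro ⟨g, hg, rfl⟩
    exact ⟨isoEquiv Q g, (mem_omega_iff g).1 hg, by rw [map_mul, map_mul, map_inv, inv_mul_cancel_right]⟩
  · rintro ⟨k, hk, hkt⟩
    refine ⟨(isoEquiv Q).symm k, (mem_omega_iff _).2 (by rwa [MulEquiv.apply_symm_apply]),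
      (isoEquiv Q).injective ?_⟩
    rw [map_mul, map_mul, map_inv, MulEquiv.apply_symm_apply, hkt, mul_inv_cancel_right]

theorem omega_even_rank (hQ : PolarNondeg Q) (hgen : reflGroup Q = ⊤) (h2 : 2 ≤ Fintype.card ι)
    (t : isometryGroup F ⇑Q) : t ∈ Omega F ⇑Q ↔ Even (isoMat t - 1).rank := by
  rw [mem_omega_iff, mem_commutator_iff_even_rank hQ hgen (by rw [Module.finrank_fintype_fun_eq_card]; omega),
    rank_sub_one]

theorem inRange_isoEquiv (t : isometryGroup F ⇑Q) :
    inRange (isoEquiv Q t) = LinearMap.range (Matrix.toLin' (isoMat t - 1)) := by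
  rw [inRange]
  congr 1
  exact LinearMap.ext fun x => by
    show isoMat t *ᵥ x - x = Matrix.toLin' (isoMat t - 1) x
    rw [Matrix.toLin'_apply, Matrix.sub_mulVec, Matrix.one_mulVec]

end Coordinates

end CfsgLib.KnownSimple.CharTwoInv
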