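import Cfsg.Agent.Lib.Classical.AltBasis

/-!
Equivalence of non-degenerate symmetric bilinear forms in characteristic two.
-/

set_option autoImplicit false

namespace CfsgLib.KnownSimple.CharTwoInv

open CfsgLib.Classical

variable {F V V' : Type*} [Field F] [AddCommGroup V] [Module F V] [FiniteDimensional F V]
  [AddCommGroup V'] [Module F V'] [FiniteDimensional F V']

/-- Equivalence of alternating forms. -/
theorem exists_equiv_alt (β : LinearMap.BilinForm F V) (β' : LinearMap.BilinForm F V')
    (hA : β.IsAlt) (hB : ∀ v, (∀ w, β v w = 0) → v = 0)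
    (hA' : β'.IsAlt) (hB' : ∀ v, (∀ w, β' v w = 0) → v = 0)
    (hd : Module.finrank F V = Module.finrank F V') :
    ∃ e : V ≃ₗ[F] V', ∀ u v, β' (e u) (e v) = β u v := by
  obtain ⟨k, hk, e, he⟩ := exists_symp_equiv β hA hB
  obtain ⟨k', hk', e', he'⟩ := exists_symp_equiv β' hA' hB'
  obtain rfl : k = k' := by omega
  refine ⟨e.symm.trans e', fun u v => ?_⟩
  simp only [LinearEquiv.trans_apply]
  rw [he', ← he, e.apply_symm_apply, e.apply_symm_apply]

variable [Finite F] [CharP F 2]

omit [FiniteDimensional F V'] in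
/-- The normal form of a non-alternating symmetric form: a line or a plane plus an alternating form. -/
theorem exists_normal_nonalt (β : LinearMap.BilinForm F V) (hS : ∀ u v, β u v = β v u)
    (hB : ∀ v, (∀ w, β v w = 0) → v = 0) (hna : ∃ v, β v v ≠ 0) :
    (∃ (k : ℕ) (E : (F × (Fin k ⊕ Fin k → F)) ≃ₗ[F] V), ∀ p r,
      β (E p) (E r) = p.1 * r.1 + Cfsg.sympForm k F p.2 r.2) ∨
    (∃ (k : ℕ) (E : (F × F × (Fin k ⊕ Fin k → F)) ≃ₗ[F] V), ∀ p r,
      β (E p) (E r) = p.1 * r.2.1 + p.2.1 * r.1 + p.2.1 * r.2.1 + Cfsg.sympForm k F p.2.2 r.2.2) := by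
  classical
  haveI : Fact (Nat.Prime 2) := ⟨Nat.prime_two⟩
  haveI := Fintype.ofFinite F
  have hσ : ∀ a b : F, a ^ 2 = b ^ 2 → a = b := fun a b e => by
    have e' : (a + b) ^ 2 = 0 := by rw [CharTwo.add_sq, e, CharTwo.add_self_eq_zero]
    exact CharTwo.add_eq_zero.1 (pow_eq_zero_iff (by norm_num) |>.1 e')
  have hsq : ∀ a : F, ∃ b, b ^ 2 = a := fun a => by
    obtain ⟨b, hb⟩ := FiniteField.isSquare_of_char_two (ringChar.eq F 2) a
    exact ⟨b, by rw [hb, sq]⟩
  choose r hr using hsq
  let φ : V →ₗ[F] F :=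
    { toFun := fun v => r (β v v)
      map_add' := fun u v => hσ _ _ (by
        rw [CharTwo.add_sq, hr, hr, hr]
        simp [hS u v]
        linear_combination (β v u) * CharTwo.two_eq_zero (R := F))
      map_smul' := fun c v => hσ _ _ (by
        simp only [hr, RingHom.id_apply, smul_eq_mul, mul_pow]
        simp
        ring) }
  have hBn : β.Nondegenerate := ⟨hB, fun v h => hB v fun w => (hS v w).trans (h w)⟩
  set d := (β.toDual hBn).symm φ with hd'
  have hd : ∀ v, β v v = β v d ^ 2 := fun v => by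
    rw [hS v d, hd', LinearMap.BilinForm.apply_toDual_symm_apply]
    exact (hr _).symm
  by_cases hdd : β d d = 0
  · right
    have hd0 : d ≠ 0 := fun h => by
      obtain ⟨v, hv⟩ := hna
      exact hv (by rw [hd, h]; simp)
    obtain ⟨e₀, he₀⟩ : ∃ w, β d w ≠ 0 := by
      by_contra h
      push Not at h
      exact hd0 (hB d h)
    obtain ⟨e, hed⟩ : ∃ e, β e d = 1 := ⟨(β d e₀)⁻¹ • e₀, by
      rw [map_smul, LinearMap.smul_apply, smul_eq_mul, hS e₀ d, inv_mul_cancel₀ he₀]⟩
    have hde : β d e = 1 := (hS _ _).trans hed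
    have hee : β e e = 1 := by rw [hd, hed, one_pow]
    let W : Submodule F V := LinearMap.ker (β.flip d) ⊓ LinearMap.ker (β.flip e)
    have hW : ∀ w : W, β (w : V) d = 0 ∧ β (w : V) e = 0 ∧ β d (w : V) = 0 ∧ β e (w : V) = 0 := fun w => by
      have h1 : β (w : V) d = 0 := w.2.1
      have h2 : β (w : V) e = 0 := w.2.2
      exact ⟨h1, h2, by rw [hS]; exact h1, by rw [hS]; exact h2⟩
    let cx : V →ₗ[F] F := β.flip e - β.flip d
    let cy : V →ₗ[F] F := β.flip d
    let P : V →ₗ[F] W := LinearMap.codRestrict W (LinearMap.id - cx.smulRight d - cy.smulRight e)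
      fun v => by
        refine Submodule.mem_inf.2 ⟨?_, ?_⟩
        · simp [cx, cy, hdd, hed, hde]
        · simp [cx, cy, hdd, hed, hde, hee]
    have hP : ∀ v, (P v : V) = v - cx v • d - cy v • e := fun v => rfl
    have hdec : ∀ v, v = cx v • d + cy v • e + (P v : V) := fun v => by rw [hP]; abel
    let β' : LinearMap.BilinForm F W := β.compl₁₂ W.subtype W.subtype
    have hB' : ∀ w, (∀ w', β' w w' = 0) → w = 0 := fun w h => Subtype.ext (hB _ fun v => by
      rw [hdec v, map_add, map_add, map_smul, map_smul, (hW w).1, (hW w).2.1]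
      simpa [β'] using h (P v))
    obtain ⟨k, -, f, hf⟩ := exists_symp_equiv β' (fun w => by
      show β (w : V) w = 0
      rw [hd, (hW w).1]; simp) hB'
    let E0 : (F × F × W) →ₗ[F] V := ((LinearMap.id : F →ₗ[F] F).smulRight d).coprod
      (((LinearMap.id : F →ₗ[F] F).smulRight e).coprod W.subtype)
    have hE0 : ∀ p, E0 p = p.1 • d + p.2.1 • e + (p.2.2 : V) := fun p => by simp [E0, add_assoc]
    have hbij : Function.Bijective E0 := by
      refine ⟨(injective_iff_map_eq_zero E0).2 fun p hp => ?_, fun v => ⟨(cx v, cy v, P v), by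
        rw [hE0]; exact (hdec v).symm⟩⟩
      rw [hE0] at hp
      have hy : p.2.1 = 0 := by
        have := congrArg (fun z => β z d) hp
        simpa [hdd, hed, hW p.2.2] using this
      have hx : p.1 = 0 := by
        have := congrArg (fun z => β z e) hp
        simpa [hde, hee, hW p.2.2, hy] using this
      rw [hx, hy, zero_smul, zero_smul, zero_add, zero_add] at hp
      exact Prod.ext hx (Prod.ext hy (Subtype.ext hp))
    refine ⟨k, ((LinearEquiv.refl F F).prodCongr ((LinearEquiv.refl F F).prodCongr f)).trans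
      (LinearEquiv.ofBijective E0 hbij), fun p r => ?_⟩
    simp only [LinearEquiv.trans_apply, LinearEquiv.prodCongr_apply, LinearEquiv.refl_apply,
      LinearEquiv.ofBijective_apply, hE0]
    have h1 := hf p.2.2 r.2.2
    simp only [β', LinearMap.compl₁₂_apply, Submodule.subtype_apply] at h1
    simp [hdd, hde, hed, hee, hW (f p.2.2), hW (f r.2.2), h1]
    ring
  · left
    have hdd1 : β d d = 1 := by
      have h := hd d
      rw [sq] at h
      exact (mul_left_eq_self₀.1 h.symm).resolve_right hdd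
    let W : Submodule F V := LinearMap.ker (β.flip d)
    have hW : ∀ w : W, β (w : V) d = 0 ∧ β d (w : V) = 0 := fun w => by
      have h1 : β (w : V) d = 0 := w.2
      exact ⟨h1, by rw [hS]; exact h1⟩
    let cd : V →ₗ[F] F := β.flip d
    let P : V →ₗ[F] W := LinearMap.codRestrict W (LinearMap.id - cd.smulRight d) fun v => by
      simp [W, cd, hdd1]
    have hP : ∀ v, (P v : V) = v - cd v • d := fun v => rfl
    have hdec : ∀ v, v = cd v • d + (P v : V) := fun v => by rw [hP]; abel
    let β' : LinearMap.BilinForm F W := β.compl₁₂ W.subtype W.subtype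
    have hB' : ∀ w, (∀ w', β' w w' = 0) → w = 0 := fun w h => Subtype.ext (hB _ fun v => by
      rw [hdec v, map_add, map_smul, (hW w).1]
      simpa [β'] using h (P v))
    obtain ⟨k, -, f, hf⟩ := exists_symp_equiv β' (fun w => by
      show β (w : V) w = 0
      rw [hd, (hW w).1]; simp) hB'
    let E0 : (F × W) →ₗ[F] V := ((LinearMap.id : F →ₗ[F] F).smulRight d).coprod W.subtype
    have hE0 : ∀ p, E0 p = p.1 • d + (p.2 : V) := fun p => by simp [E0]
    have hbij : Function.Bijective E0 := by
      refine ⟨(injective_iff_map_eq_zero E0).2 fun p hp => ?_, fun v => ⟨(cd v, P v), by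
        rw [hE0]; exact (hdec v).symm⟩⟩
      rw [hE0] at hp
      have hx : p.1 = 0 := by
        have := congrArg (fun z => β z d) hp
        simpa [hdd1, hW p.2] using this
      rw [hx, zero_smul, zero_add] at hp
      exact Prod.ext hx (Subtype.ext hp)
    refine ⟨k, ((LinearEquiv.refl F F).prodCongr f).trans (LinearEquiv.ofBijective E0 hbij), fun p r => ?_⟩
    simp only [LinearEquiv.trans_apply, LinearEquiv.prodCongr_apply, LinearEquiv.refl_apply,
      LinearEquiv.ofBijective_apply, hE0]
    have h1 := hf p.2 r.2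
    simp only [β', LinearMap.compl₁₂_apply, Submodule.subtype_apply] at h1
    simp [hdd1, hW (f p.2), hW (f r.2), h1]

/-- Non-alternating forms of equal dimension are equivalent. -/
theorem exists_equiv_nonalt (β : LinearMap.BilinForm F V) (β' : LinearMap.BilinForm F V')
    (hS : ∀ u v, β u v = β v u) (hB : ∀ v, (∀ w, β v w = 0) → v = 0) (hna : ∃ v, β v v ≠ 0)
    (hS' : ∀ u v, β' u v = β' v u) (hB' : ∀ v, (∀ w, β' v w = 0) → v = 0) (hna' : ∃ v, β' v v ≠ 0)
    (hd : Module.finrank F V = Module.finrank F V') :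
    ∃ e : V ≃ₗ[F] V', ∀ u v, β' (e u) (e v) = β u v := by
  rcases exists_normal_nonalt β hS hB hna with ⟨k, E, hE⟩ | ⟨k, E, hE⟩ <;>
    rcases exists_normal_nonalt β' hS' hB' hna' with ⟨k', E', hE'⟩ | ⟨k', E', hE'⟩ <;>
    rw [← E.finrank_eq, ← E'.finrank_eq] at hd <;>
    simp only [Module.finrank_prod, Module.finrank_self, Module.finrank_fintype_fun_eq_card,
      Fintype.card_sum, Fintype.card_fin] at hd
  · obtain rfl : k = k' := by omega
    exact ⟨E.symm.trans E', fun u v => by
      rw [LinearEquiv.trans_apply, LinearEquiv.trans_apply, hE', ← hE, E.apply_symm_apply, E.apply_symm_apply]⟩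
  · omega
  · omega
  · obtain rfl : k = k' := by omega
    exact ⟨E.symm.trans E', fun u v => by
      rw [LinearEquiv.trans_apply, LinearEquiv.trans_apply, hE', ← hE, E.apply_symm_apply, E.apply_symm_apply]⟩

end CfsgLib.KnownSimple.CharTwoInv
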