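import Cfsg.Agent.Lib.KnownSimple.CharTwoInv.SpCentralizer
import Cfsg.Agent.Lib.KnownSimple.CharTwoInv.NormalForm
import Cfsg.Agent.Lib.Classical.QuadPOmega

/-!
Involutions preserving a non-degenerate alternating form in characteristic two: normal forms.
-/

set_option autoImplicit false

namespace CfsgLib.KnownSimple.CharTwoInv

open CfsgLib.Classical

variable {F V : Type*} [Field F] [CharP F 2] [AddCommGroup V] [Module F V]

/-- `x ↦ Σ c i j B(x, u i) u j`. -/
noncomputable def tLin (B : LinearMap.BilinForm F V) {s : ℕ} (u : Fin s → V) (c : Fin s → Fin s → F) :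
    V →ₗ[F] V :=
  ∑ i, ∑ j, (B.flip (u i)).smulRight (c i j • u j)

omit [CharP F 2] in
theorem tLin_apply (B : LinearMap.BilinForm F V) {s : ℕ} (u : Fin s → V) (c : Fin s → Fin s → F) (x : V) :
    tLin B u c x = ∑ i, ∑ j, (B x (u i) * c i j) • u j := by
  simp [tLin, LinearMap.sum_apply, smul_smul]

/-- The coordinates of `x` against a family. -/
def coords (B : LinearMap.BilinForm F V) {s : ℕ} (u : Fin s → V) (x : V) : Fin s → F := fun i => B x (u i)

omit [CharP F 2] in
theorem tLin_form (B : LinearMap.BilinForm F V) {s : ℕ} (u : Fin s → V) (c : Fin s → Fin s → F) (x y : V) :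
    B y (tLin B u c x) = cForm c (coords B u x) (coords B u y) := by
  rw [tLin_apply, cForm_apply, map_sum]
  simp [coords, map_sum]

/-- The data of an involution. -/
structure IsData (B : LinearMap.BilinForm F V) (t : V →ₗ[F] V) {s : ℕ} (u : Fin s → V)
    (c : Fin s → Fin s → F) : Prop where
  li : LinearIndependent F u
  iso : ∀ i j, B (u i) (u j) = 0
  sym : ∀ a b, cForm c a b = cForm c b a
  nd : ∀ a, (∀ b, cForm c a b = 0) → a = 0
  eq : ∀ x, t x = x + tLin B u c x

variable [FiniteDimensional F V] {B : LinearMap.BilinForm F V}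

theorem symm_of_alt (hA : B.IsAlt) (x y : V) : B x y = B y x := by
  rw [← LinearMap.IsAlt.neg hA, CharTwo.neg_eq]

omit [CharP F 2] in
theorem exists_coords (hB : B.Nondegenerate) {s : ℕ} {u : Fin s → V} (hu : LinearIndependent F u)
    (a : Fin s → F) : ∃ x, coords B u x = a := by
  obtain ⟨φ, hφ⟩ := LinearMap.exists_extend ((Module.Basis.span hu).constr F a)
  refine ⟨(B.toDual hB).symm φ, funext fun i => ?_⟩
  show B ((B.toDual hB).symm φ) (u i) = a i
  rw [LinearMap.BilinForm.apply_toDual_symm_apply]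
  have h := LinearMap.congr_fun hφ (Module.Basis.span hu i)
  rw [LinearMap.comp_apply, Submodule.subtype_apply, Module.Basis.constr_basis,
    Module.Basis.span_apply] at h
  exact h

namespace IsData

variable {t : V →ₗ[F] V} {s : ℕ} {u : Fin s → V} {c : Fin s → Fin s → F}

omit [FiniteDimensional F V] in
theorem add_self (h : IsData B t u c) (x : V) : t x + x = tLin B u c x := by
  haveI : CharP F 2 := inferInstance
  rw [h.eq, add_comm, ← add_assoc, ← two_smul F x, CharTwo.two_eq_zero, zero_smul, zero_add]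

theorem coords_zero (h : IsData B t u c) (x : V) : coords B u (tLin B u c x) = 0 := by
  funext i
  show B (tLin B u c x) (u i) = 0
  rw [tLin_apply]
  simp [map_sum, LinearMap.sum_apply, h.iso]

theorem range_eq (h : IsData B t u c) (hB : B.Nondegenerate) :
    LinearMap.range (tLin B u c) = Submodule.span F (Set.range u) := by
  refine le_antisymm ?_ (Submodule.span_le.2 ?_)
  · rintro _ ⟨x, rfl⟩
    rw [tLin_apply]
    exact Submodule.sum_mem _ fun i _ => Submodule.sum_mem _ fun j _ =>
      Submodule.smul_mem _ _ (Submodule.subset_span ⟨j, rfl⟩)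
  · rintro _ ⟨k, rfl⟩
    have hb : (cForm c).Nondegenerate := ⟨h.nd, fun a ha => h.nd a fun b => (h.sym a b).trans (ha b)⟩
    let φ : Module.Dual F (Fin s → F) := LinearMap.proj k
    obtain ⟨x, hx⟩ := exists_coords hB h.li (((cForm c).toDual hb).symm φ)
    refine ⟨x, ?_⟩
    have ha : ∀ l, cForm c (coords B u x) (Pi.single l 1) = if l = k then 1 else 0 := fun l => by
      rw [hx, LinearMap.BilinForm.apply_toDual_symm_apply]
      simp [φ, Pi.single_apply, eq_comm]
    rw [tLin_apply, Finset.sum_comm]
    simp only [← Finset.sum_smul]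
    have hrew : ∀ l, ∑ i, B x (u i) * c i l = if l = k then 1 else 0 := fun l => by
      rw [← ha l, cForm_apply]
      simp [coords, Pi.single_apply]
    simp [hrew]

theorem rank (h : IsData B t u c) (hB : B.Nondegenerate) :
    Module.finrank F (LinearMap.range (t + LinearMap.id)) = s := by
  rw [show t + LinearMap.id = tLin B u c from LinearMap.ext h.add_self, h.range_eq hB,
    finrank_span_eq_card h.li, Fintype.card_fin]

theorem alt_iff (h : IsData B t u c) (hA : B.IsAlt) (hB : B.Nondegenerate) :
    (∀ v, B v (t v) = 0) ↔ ∀ a, cForm c a a = 0 := by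
  constructor
  · intro hv a
    obtain ⟨x, rfl⟩ := exists_coords hB h.li a
    rw [← tLin_form, ← h.add_self, map_add, hv, hA x, add_zero]
  · intro ha v
    have h1 := tLin_form B u c v v
    rw [← h.add_self, map_add, hA v, add_zero, ha] at h1
    exact h1

theorem preserves (h : IsData B t u c) (hA : B.IsAlt) (x y : V) : B (t x) (t y) = B x y := by
  rw [h.eq, h.eq, map_add, map_add, LinearMap.add_apply, LinearMap.add_apply, tLin_form,
    symm_of_alt hA (tLin B u c x) y, tLin_form, h.sym (coords B u x)]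
  rw [tLin_form B u c y (tLin B u c x), h.coords_zero]
  simp
  rw [h.sym, add_assoc, CharTwo.add_self_eq_zero, add_zero]

theorem involutive (h : IsData B t u c) (x : V) : t (t x) = x := by
  rw [h.eq (t x)]
  have h1 : tLin B u c (t x) = tLin B u c x := by
    rw [h.eq, map_add]
    refine add_eq_left.2 ?_
    rw [tLin_apply B u c (tLin B u c x)]
    refine Finset.sum_eq_zero fun i _ => Finset.sum_eq_zero fun j _ => ?_
    rw [show B (tLin B u c x) (u i) = 0 from congrFun (h.coords_zero x) i, zero_mul, zero_smul]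
  rw [h1, h.eq, add_assoc, ← two_smul F (tLin B u c x), CharTwo.two_eq_zero, zero_smul, add_zero]

/-- Changing the frame along an equivalence of forms. -/
theorem change (h : IsData B t u c) (hA : B.IsAlt) (hB : B.Nondegenerate) {c' : Fin s → Fin s → F}
    (hsym : ∀ a b, cForm c' a b = cForm c' b a)
    (e : (Fin s → F) ≃ₗ[F] (Fin s → F)) (he : ∀ a b, cForm c' (e a) (e b) = cForm c a b) :
    ∃ w, IsData B t w c' := by
  classical
  let K : Matrix (Fin s) (Fin s) F := LinearMap.toMatrix' e.toLinearMap
  let w : Fin s → V := fun i => ∑ k, K i k • u k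
  have hco : ∀ x, coords B w x = e (coords B u x) := fun x => by
    funext i
    show B x (∑ k, K i k • u k) = e.toLinearMap (coords B u x) i
    rw [← LinearMap.toMatrix'_mulVec]
    simp [K, Matrix.mulVec, dotProduct, coords, map_sum]
  have hnd : ∀ a, (∀ b, cForm c' a b = 0) → a = 0 := fun a ha => by
    obtain ⟨a, rfl⟩ := e.surjective a
    rw [h.nd a fun b => (he a b).symm.trans (ha (e b)), map_zero]
  have htl : ∀ x, tLin B w c' x = tLin B u c x := fun x => by
    refine sub_eq_zero.1 (hB.1 _ fun y => ?_)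
    rw [symm_of_alt hA, map_sub, tLin_form, tLin_form, hco, hco, he, sub_self]
  have hspan : Submodule.span F (Set.range u) ≤ Submodule.span F (Set.range w) := by
    rw [← h.range_eq hB]
    rintro _ ⟨x, rfl⟩
    rw [← htl, tLin_apply]
    exact Submodule.sum_mem _ fun i _ => Submodule.sum_mem _ fun j _ =>
      Submodule.smul_mem _ _ (Submodule.subset_span ⟨j, rfl⟩)
  refine ⟨w, ?_, fun i j => by simp [w, map_sum, LinearMap.sum_apply, h.iso], hsym, hnd,
    fun x => by rw [htl]; exact h.eq x⟩
  rw [linearIndependent_iff_card_le_finrank_span, ← finrank_span_eq_card h.li]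
  exact Submodule.finrank_mono hspan

/-- An isometry carrying one frame to another conjugates the involutions. -/
theorem conj (h : IsData B t u c) {t' : V →ₗ[F] V} {w : Fin s → V} (h' : IsData B t' w c)
    (g : V ≃ₗ[F] V) (hg : ∀ x y, B (g x) (g y) = B x y) (hgu : ∀ i, g (u i) = w i) (x : V) :
    g (t x) = t' (g x) := by
  rw [h.eq, h'.eq, map_add, tLin_apply, tLin_apply, map_sum]
  simp [map_sum, ← hgu, hg]

end IsData

/-- Every involution preserving the form has data. -/
theorem exists_isData (hA : B.IsAlt) (hB : B.Nondegenerate) (t : V →ₗ[F] V)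
    (ht : ∀ x y, B (t x) (t y) = B x y) (ht2 : ∀ x, t (t x) = x) :
    ∃ (u : Fin (Module.finrank F (LinearMap.range (t + LinearMap.id))) → V)
      (c : Fin (Module.finrank F (LinearMap.range (t + LinearMap.id))) →
        Fin (Module.finrank F (LinearMap.range (t + LinearMap.id))) → F),
      IsData B t u c := by
  classical
  let T : V →ₗ[F] V := t + LinearMap.id
  have hT : ∀ x, T x = t x + x := fun x => rfl
  have hsym : ∀ x y, B (T x) y = B x (T y) := fun x y => by
    rw [hT, hT, map_add, LinearMap.add_apply, map_add]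
    congr 1
    conv_lhs => rw [← ht, ht2]
  have hTT : ∀ x, T (T x) = 0 := fun x => by
    rw [hT (T x), hT, map_add, ht2, add_comm x (t x), ← two_smul F (t x + x), CharTwo.two_eq_zero,
      zero_smul]
  let b := Module.finBasis F (LinearMap.range (t + LinearMap.id))
  let u : Fin (Module.finrank F (LinearMap.range (t + LinearMap.id))) → V := fun i => (b i : V)
  have hu : LinearIndependent F u := b.linearIndependent.map' _ (LinearMap.range _).ker_subtype
  have hu0 : ∀ i, ∃ z, T z = u i := fun i => (b i).2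
  choose z hz using hu0
  have huu : ∀ i j, B (u i) (u j) = 0 := fun i j => by
    rw [← hz i, ← hz j, hsym, hTT, map_zero]
  choose w hw using fun i => exists_coords hB hu (Pi.single i 1)
  let c : Fin (Module.finrank F (LinearMap.range (t + LinearMap.id))) →
      Fin (Module.finrank F (LinearMap.range (t + LinearMap.id))) → F :=
    fun i => b.repr ⟨T (w i), ⟨w i, rfl⟩⟩
  have hTw : ∀ i, T (w i) = ∑ j, c i j • u j := fun i => by
    have h' := congrArg Subtype.val (b.sum_repr ⟨T (w i), ⟨w i, rfl⟩⟩)
    rw [Submodule.coe_sum] at h'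
    exact h'.symm
  have hker : ∀ y, coords B u y = 0 → T y = 0 := fun y hy => hB.1 _ fun z => by
    rw [hsym]
    have h' := congrArg Subtype.val (b.sum_repr ⟨T z, ⟨z, rfl⟩⟩)
    rw [Submodule.coe_sum] at h'
    rw [show T z = _ from h'.symm, map_sum]
    refine Finset.sum_eq_zero fun j _ => ?_
    rw [Submodule.coe_smul, map_smul, show B y (b j : V) = 0 from congrFun hy j, smul_zero]
  have hform : ∀ x, T x = tLin B u c x := fun x => by
    have h0 : T (x - ∑ i, coords B u x i • w i) = 0 := hker _ (funext fun j => by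
      show B (x - ∑ i, coords B u x i • w i) (u j) = 0
      rw [map_sub, map_sum, LinearMap.sub_apply, LinearMap.sum_apply]
      simp only [map_smul, LinearMap.smul_apply, smul_eq_mul,
        show ∀ i, B (w i) (u j) = (Pi.single i 1 : _ → F) j from fun i => congrFun (hw i) j]
      simp [Pi.single_apply, coords])
    rw [map_sub, sub_eq_zero] at h0
    rw [h0, map_sum, tLin_apply]
    refine Finset.sum_congr rfl fun i _ => ?_
    rw [map_smul, hTw, Finset.smul_sum]
    simp only [smul_smul, coords]
  have hβ : ∀ x y, cForm c (coords B u x) (coords B u y) = B y (T x) := fun x y => by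
    rw [hform, tLin_form]
  refine ⟨u, c, hu, huu, fun a a' => ?_, fun a ha => ?_, fun x => ?_⟩
  · obtain ⟨x, rfl⟩ := exists_coords hB hu a
    obtain ⟨y, rfl⟩ := exists_coords hB hu a'
    rw [hβ, hβ, ← hsym, symm_of_alt hA]
  · obtain ⟨x, rfl⟩ := exists_coords hB hu a
    have h0 : T x = 0 := hB.1 _ fun y => by rw [symm_of_alt hA, ← hβ, ha]
    funext i
    show B x (u i) = 0
    rw [← hz i, ← hsym, h0, map_zero, LinearMap.zero_apply]
  · rw [← hform, hT, ← add_assoc, add_comm x (t x), add_assoc, ← two_smul F x, CharTwo.two_eq_zero,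
      zero_smul, add_zero]

/-- Standard coefficient matrices. -/
def cOne (F : Type*) [Field F] (s : ℕ) : Fin s → Fin s → F := fun i j => if i = j then 1 else 0

/-- The alternating coefficient matrix. -/
def cAlt (F : Type*) [Field F] (s : ℕ) : Fin s → Fin s → F :=
  fun i j => if (i : ℕ) / 2 = (j : ℕ) / 2 ∧ i ≠ j then 1 else 0

theorem cOne_props (s : ℕ) : (∀ a b, cForm (cOne F s) a b = cForm (cOne F s) b a) ∧
    (∀ a, (∀ b, cForm (cOne F s) a b = 0) → a = 0) ∧
    (1 ≤ s → ∃ a, cForm (cOne F s) a a ≠ 0) := by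
  have h : ∀ a b : Fin s → F, cForm (cOne F s) a b = ∑ i, a i * b i := fun a b => by
    simp [cForm_apply, cOne]
  refine ⟨fun a b => by simp only [h]; exact Finset.sum_congr rfl fun i _ => mul_comm _ _,
    fun a ha => funext fun i => ?_, fun hs => ⟨Pi.single ⟨0, hs⟩ 1, by simp [h, Pi.single_apply]⟩⟩
  have := ha (Pi.single i 1)
  simpa [h, Pi.single_apply] using this

omit [CharP F 2] in
theorem cAlt_single {s : ℕ} (hs : Even s) (i : Fin s) :
    ∃ j : Fin s, ∀ k, (cAlt F s) k j = if k = i then 1 else 0 := by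
  obtain ⟨r, rfl⟩ := hs
  refine ⟨⟨if (i : ℕ) % 2 = 0 then (i : ℕ) + 1 else (i : ℕ) - 1, by split_ifs <;> omega⟩, fun k => ?_⟩
  simp only [cAlt, Fin.ext_iff, ne_eq]
  by_cases h0 : (i : ℕ) % 2 = 0
  · simp only [h0, if_true]
    by_cases hk : (k : ℕ) = i
    · rw [if_pos hk, if_pos ⟨by omega, by omega⟩]
    · rw [if_neg hk, if_neg (by omega)]
  · simp only [h0, if_false]
    by_cases hk : (k : ℕ) = i
    · rw [if_pos hk, if_pos ⟨by omega, by omega⟩]
    · rw [if_neg hk, if_neg (by omega)]

theorem cAlt_props {s : ℕ} (hs : Even s) : (∀ a b, cForm (cAlt F s) a b = cForm (cAlt F s) b a) ∧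
    (∀ a, (∀ b, cForm (cAlt F s) a b = 0) → a = 0) ∧ (∀ a, cForm (cAlt F s) a a = 0) := by
  have hsy : ∀ i j, cAlt F s i j = cAlt F s j i := fun i j => by
    simp only [cAlt]
    exact if_congr ⟨fun h => ⟨h.1.symm, h.2.symm⟩, fun h => ⟨h.1.symm, h.2.symm⟩⟩ rfl rfl
  have hdi : ∀ i, cAlt F s i i = 0 := fun i => by simp [cAlt]
  refine ⟨fun a b => ?_, fun a ha => funext fun i => ?_, fun a => ?_⟩
  · rw [cForm_apply, cForm_apply, Finset.sum_comm]
    exact Finset.sum_congr rfl fun i _ => Finset.sum_congr rfl fun j _ => by rw [hsy]; ring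
  · obtain ⟨j, hj⟩ := cAlt_single (F := F) hs i
    have := ha (Pi.single j 1)
    simpa [cForm_apply, hj, Pi.single_apply] using this
  · rw [cForm_apply, ← Finset.sum_product']
    refine Finset.sum_involution (fun p _ => (p.2, p.1)) (fun p _ => ?_) (fun p _ hp => ?_)
      (fun p _ => by simp) (fun p _ => rfl)
    · rw [hsy p.2 p.1, mul_right_comm (a p.2), mul_comm (a p.2) (a p.1), mul_right_comm (a p.1),
        CharTwo.add_self_eq_zero]
    · intro e
      apply hp
      have : p.1 = p.2 := congrArg Prod.snd e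
      rw [this, hdi, mul_zero, zero_mul]

omit [FiniteDimensional F V] in
theorem even_of_alt {s : ℕ} {c : Fin s → Fin s → F} (hnd : ∀ a, (∀ b, cForm c a b = 0) → a = 0)
    (ha : ∀ a, cForm c a a = 0) : Even s := by
  obtain ⟨k, hk, -⟩ := exists_symp_equiv (cForm c) ha hnd
  rw [Module.finrank_fintype_fun_eq_card, Fintype.card_fin] at hk
  exact ⟨k, by omega⟩

/-- Two involutions of equal type have data with the same standard coefficients. -/
theorem exists_standard [Finite F] (hA : B.IsAlt) (hB : B.Nondegenerate) {t : V →ₗ[F] V} {s : ℕ}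
    {u : Fin s → V} {c : Fin s → Fin s → F} (h : IsData B t u c) :
    ((∀ v, B v (t v) = 0) ∧ Even s ∧ ∃ w, IsData B t w (cAlt F s)) ∨
      ((∃ v, B v (t v) ≠ 0) ∧ ∃ w, IsData B t w (cOne F s)) := by
  by_cases ha : ∀ v, B v (t v) = 0
  · have ha' := (h.alt_iff hA hB).1 ha
    have hev := even_of_alt h.nd ha'
    obtain ⟨h1, h2, h3⟩ := cAlt_props (F := F) hev
    obtain ⟨e, he⟩ := exists_equiv_alt (cForm c) (cForm (cAlt F s)) ha' h.nd h3 h2 rfl
    exact Or.inl ⟨ha, hev, h.change hA hB h1 e he⟩
  · have hne : ∃ a, cForm c a a ≠ 0 := by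
      by_contra hc
      push Not at hc
      exact ha ((h.alt_iff hA hB).2 hc)
    have hs : 1 ≤ s := by
      obtain ⟨a, hav⟩ := hne
      rcases Nat.eq_zero_or_pos s with rfl | hp
      · exact absurd (by rw [show a = 0 from Subsingleton.elim _ _, map_zero]) hav
      · exact hp
    obtain ⟨h1, h2, h3⟩ := cOne_props (F := F) s
    obtain ⟨e, he⟩ := exists_equiv_nonalt (cForm c) (cForm (cOne F s)) h.sym h.nd hne h1 h2 (h3 hs) rfl
    push Not at ha
    exact Or.inr ⟨ha, h.change hA hB h1 e he⟩

/-- Data from an independent isotropic frame. -/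
theorem exists_of_frame {s : ℕ} (u : Fin s → V) (c : Fin s → Fin s → F) (hu : LinearIndependent F u)
    (huu : ∀ i j, B (u i) (u j) = 0) (hs : ∀ a b, cForm c a b = cForm c b a)
    (hn : ∀ a, (∀ b, cForm c a b = 0) → a = 0) :
    ∃ t : V ≃ₗ[F] V, IsData B t.toLinearMap u c := by
  have h : IsData B (LinearMap.id + tLin B u c) u c := ⟨hu, huu, hs, hn, fun x => rfl⟩
  exact ⟨LinearEquiv.ofInvolutive (LinearMap.id + tLin B u c) h.involutive,
    ⟨hu, huu, hs, hn, fun x => rfl⟩⟩

end CfsgLib.KnownSimple.CharTwoInv
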