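import Cfsg.Agent.Lib.KnownSimple.CharTwoInv.InvolClasses

/-!
Isotropic and singular frames of the standard forms in characteristic two.
-/

set_option autoImplicit false

namespace CfsgLib.KnownSimple.CharTwoInv

open CfsgLib.Classical

variable {F : Type*} [Field F] [CharP F 2] [Finite F]

omit [Finite F] in
theorem add_self_zero (x : F) : x + x = 0 := CharTwo.add_self_eq_zero x

omit [CharP F 2] [Finite F] in
theorem li_of_pick {ι : Type*} {s : ℕ} (u : Fin s → ι → F) (p : Fin s → ι)
    (h : ∀ i j, u j (p i) = if j = i then 1 else 0) : LinearIndependent F u := by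
  rw [Fintype.linearIndependent_iff]
  intro a ha i
  have := congrFun ha (p i)
  simpa [Finset.sum_apply, h] using this

theorem frames_qPlus (m : ℕ) : Frames (qPlus m F) m m where
  nd := polarNondeg_qPlus m
  dim := by rw [Module.finrank_pi, Fintype.card_sum, Fintype.card_fin]; omega
  le := le_rfl
  one s hs := by
    let u : Fin s → Fin m ⊕ Fin m → F := fun i => Sum.elim (fun j => if (j : ℕ) = i then 1 else 0)
      (fun j => if (j : ℕ) = i then 1 else 0)
    refine ⟨u, li_of_pick u (fun i => .inl (Fin.castLE hs i)) (fun i j => ?_), fun i j => ?_, fun i => ?_⟩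
    · simp [u, Fin.ext_iff, eq_comm]
    · simp only [QuadraticMap.polar, coe_qPlus, Cfsg.quadFormPlus, u, Pi.add_apply, Sum.elim_inl, Sum.elim_inr,
        add_mul, mul_add, Finset.sum_add_distrib]
      simp [CharTwo.sub_eq_add, mul_comm]
      grind [CharTwo.add_self_eq_zero]
    · rw [coe_qPlus]
      simp only [Cfsg.quadFormPlus, u, Sum.elim_inl, Sum.elim_inr]
      rw [Finset.sum_eq_single (Fin.castLE hs i) (fun j _ hj => by
        rw [if_neg (fun e : (j : ℕ) = i => hj (Fin.ext e)), mul_zero]) (by simp)]
      simp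
  zero s hs := by
    let u : Fin s → Fin m ⊕ Fin m → F := fun i => Sum.elim (fun j => if (j : ℕ) = i then 1 else 0) 0
    refine ⟨u, li_of_pick u (fun i => .inl (Fin.castLE hs i)) (fun i j => ?_), fun a => ?_⟩
    · simp [u, Fin.ext_iff, eq_comm]
    · rw [coe_qPlus]
      simp [Cfsg.quadFormPlus, u, Finset.sum_apply]
  maxi U hU := by
    have h := CfsgLib.Classical22.two_mul_finrank_singular _ (polarNondeg_qPlus (F := F) m) hU
    rw [Module.finrank_pi, Fintype.card_sum, Fintype.card_fin] at h
    omega

/-- The standard singular subspace of the elliptic form. -/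
def ellInc (k : ℕ) : (Fin k → F) →ₗ[F] ((Fin k ⊕ Fin k) ⊕ Fin 2 → F) where
  toFun a := Sum.elim (Sum.elim a 0) 0
  map_add' a b := by funext i; rcases i with (i | i) | i <;> simp
  map_smul' r a := by funext i; rcases i with (i | i) | i <;> simp

theorem frames_qExt (k : ℕ) {a b : F} (hab : BinAniso a b) : Frames (qExt k (qBin a b)) (k + 1) k where
  nd := polarNondeg_qExt (polarNondeg_qBin hab) k
  dim := by simp [Module.finrank_pi]; omega
  le := Nat.le_succ k
  one s hs := by
    let u : Fin s → (Fin k ⊕ Fin k) ⊕ Fin 2 → F := fun i => Sum.elim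
      (Sum.elim (fun j => if (j : ℕ) = i then 1 else 0) (fun j => if (j : ℕ) = i then 1 else 0))
      (fun j => if (i : ℕ) = k ∧ j = 0 then 1 else 0)
    let p : Fin s → (Fin k ⊕ Fin k) ⊕ Fin 2 := fun i =>
      if h : (i : ℕ) < k then .inl (.inl ⟨i, h⟩) else .inr 0
    have hik : ∀ i : Fin s, ¬ (i : ℕ) < k → (i : ℕ) = k := fun i h => by omega
    refine ⟨u, li_of_pick u p (fun i j => ?_), fun i j => ?_, fun i => ?_⟩
    · by_cases h : (i : ℕ) < k
      · simp only [p, dif_pos h, u, Sum.elim_inl]
        rcases eq_or_ne j i with rfl | hne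
        · simp
        · rw [if_neg hne, if_neg fun e : (i : ℕ) = j => hne (Fin.ext e.symm)]
      · simp only [p, dif_neg h, u, Sum.elim_inr]
        rcases eq_or_ne j i with rfl | hne
        · simp [hik _ h]
        · rw [if_neg hne, if_neg fun e => hne (Fin.ext (e.1.trans (hik i h).symm))]
    · rcases eq_or_ne i j with rfl | hne
      · rw [quad_polar_self, CharTwo.two_eq_zero, zero_mul]
      have hv : (i : ℕ) ≠ j := fun e => hne (Fin.ext e)
      simp only [QuadraticMap.polar, coe_qExt_qBin, Cfsg.quadFormMinus, u, Pi.add_apply, Sum.elim_inl, Sum.elim_inr,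
        add_mul, mul_add, Finset.sum_add_distrib]
      rw [Finset.sum_eq_zero (f := fun x : Fin k => (if (x : ℕ) = i then (1 : F) else 0) * if (x : ℕ) = j then 1 else 0)
          (fun x _ => by
            by_cases h : (x : ℕ) = i
            · rw [if_pos h, if_neg (fun e => hv (h.symm.trans e)), mul_zero]
            · rw [if_neg h, zero_mul]),
        Finset.sum_eq_zero (f := fun x : Fin k => (if (x : ℕ) = j then (1 : F) else 0) * if (x : ℕ) = i then 1 else 0)
          (fun x _ => by
            by_cases h : (x : ℕ) = i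
            · rw [if_pos h, if_neg (fun e => hv (h.symm.trans e)), zero_mul]
            · rw [if_neg h, mul_zero])]
      by_cases hi : (i : ℕ) = k
      · simp [hi, show (j : ℕ) ≠ k by omega]
      · simp [hi]
        ring
    · rw [qExt_apply, qBin_apply]
      simp only [u, Sum.elim_inl, Sum.elim_inr]
      by_cases h : (i : ℕ) < k
      · rw [Finset.sum_eq_single (⟨i, h⟩ : Fin k) (fun j _ hj => by
          rw [if_neg (fun e => hj (Fin.ext e)), mul_zero]) (by simp)]
        simp [h.ne]
      · rw [Finset.sum_eq_zero (fun j _ => by rw [if_neg (by omega : ¬ (j : ℕ) = i), mul_zero])]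
        simp [hik i h]
  zero s hs := by
    let u : Fin s → (Fin k ⊕ Fin k) ⊕ Fin 2 → F := fun i =>
      ellInc k (fun j => if (j : ℕ) = i then 1 else 0)
    refine ⟨u, li_of_pick u (fun i => .inl (.inl (Fin.castLE hs i))) (fun i j => ?_), fun c => ?_⟩
    · simp [u, ellInc, Fin.ext_iff, eq_comm]
    · rw [show ∑ i, c i • u i = ellInc k (∑ i, c i • fun j : Fin k => if (j : ℕ) = (i : ℕ) then (1 : F) else 0) by
        simp [u, map_sum]]
      simp [qExt_apply, qBin_apply, ellInc]
  maxi U hU := by
    classical
    have hnd := polarNondeg_qExt (polarNondeg_qBin hab) k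
    by_contra hlt
    push Not at hlt
    obtain ⟨U', hU', hd'⟩ : ∃ U' ≤ U, Module.finrank F U' = k := by
      obtain ⟨f, hf⟩ := exists_linearIndependent_of_le_finrank (R := F) (M := U) hlt.le
      refine ⟨Submodule.span F (Set.range fun i => ((f i : U) : (Fin k ⊕ Fin k) ⊕ Fin 2 → F)),
        Submodule.span_le.2 (by rintro _ ⟨i, rfl⟩; exact (f i).2), ?_⟩
      exact (finrank_span_eq_card (hf.map' U.subtype (Submodule.ker_subtype U))).trans (Fintype.card_fin k)
    have hX : Module.finrank F (LinearMap.range (ellInc (F := F) k)) = k := by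
      rw [LinearMap.finrank_range_of_inj]
      · simp
      · intro x y e
        funext i
        simpa [ellInc] using congrFun e (.inl (.inl i))
    have hXs : ∀ x ∈ LinearMap.range (ellInc (F := F) k), qExt k (qBin a b) x = 0 := by
      rintro _ ⟨x, rfl⟩
      simp [qExt_apply, qBin_apply, ellInc]
    obtain ⟨h, hh⟩ := OrthOmega.exists_move_singular' hnd (hd'.trans hX.symm) (fun x hx => hU x (hU' hx)) hXs
    have hle : U.map h.1.toLinearMap ≤ LinearMap.range (ellInc (F := F) k) := by
      intro w hw
      have hs : ∀ y ∈ U.map h.1.toLinearMap, qExt k (qBin a b) y = 0 := by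
        rintro _ ⟨y, hy, rfl⟩
        exact (qAut_map h y).trans (hU y hy)
      have hf : ∀ i, w (.inl (.inr i)) = 0 := fun i => by
        have hmem : ellInc k (Pi.single i (1 : F)) ∈ U.map h.1.toLinearMap :=
          Submodule.map_mono hU' (hh ▸ LinearMap.mem_range_self _ _)
        have h1 := CfsgLib.Classical22.polar_zero_of_singular _ hs hmem hw
        have h2 : QuadraticMap.polar (qExt k (qBin a b)) (ellInc k (Pi.single i (1 : F))) w = w (.inl (.inr i)) := by
          simp [QuadraticMap.polar, qExt_apply, qBin_apply, ellInc, Pi.single_apply, add_mul, Finset.sum_add_distrib]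
        exact h2 ▸ h1
      have hb := hs w hw
      rw [qExt_apply, qBin_apply, Finset.sum_eq_zero (fun i _ => by rw [hf, mul_zero]), zero_add] at hb
      obtain ⟨h0, h1⟩ := hab _ _ hb
      refine ⟨fun i => w (.inl (.inl i)), funext fun j => ?_⟩
      rcases j with (i | i) | i
      · rfl
      · exact (hf i).symm
      · fin_cases i <;> simp [ellInc, h0, h1]
    have := Submodule.finrank_mono hle
    rw [LinearEquiv.finrank_map_eq, hX] at this
    omega

end CfsgLib.KnownSimple.CharTwoInv
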