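import Cfsg.Agent.Lib.KnownSimple.CharTwoInv.InvolFrames
import Cfsg.Agent.Lib.Classical.SpSplit

/-!
Classes of involutions of symplectic groups in characteristic two.
-/

set_option autoImplicit false

namespace CfsgLib.KnownSimple.CharTwoInv

open Matrix Cfsg CfsgLib.Classical

variable {F : Type*} [Field F] [CharP F 2] [Finite F] {m : ℕ}

/-- The linear map of a symplectic matrix. -/
noncomputable def spLin (g : symplecticGroup (Fin m) F) : (Fin m ⊕ Fin m → F) →ₗ[F] (Fin m ⊕ Fin m → F) :=
  g.1.mulVecLin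

/-- The type `(rank, alternating)`. -/
noncomputable def spType (g : symplecticGroup (Fin m) F) : ℕ × Prop :=
  (Module.finrank F (LinearMap.range (spLin g + LinearMap.id)), ∀ v, spBilin m F v (spLin g v) = 0)

omit [CharP F 2] [Finite F] in
theorem spLin_mul (g h : symplecticGroup (Fin m) F) (x : Fin m ⊕ Fin m → F) :
    spLin (g * h) x = spLin g (spLin h x) := by
  simp [spLin, mulVec_mulVec]

omit [CharP F 2] [Finite F] in
theorem spLin_form (g : symplecticGroup (Fin m) F) (x y : Fin m ⊕ Fin m → F) :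
    spBilin m F (spLin g x) (spLin g y) = spBilin m F x y :=
  mem_sp_iff.1 g.2 x y

omit [CharP F 2] [Finite F] in
theorem spLin_ext {g h : symplecticGroup (Fin m) F} (e : ∀ x, spLin g x = spLin h x) : g = h :=
  Subtype.ext (Matrix.ext_of_mulVec_single fun i => e (Pi.single i 1))

theorem sp_exists_data {g : symplecticGroup (Fin m) F} (hg : g * g = 1) {s : ℕ}
    (hs : Module.finrank F (LinearMap.range (spLin g + LinearMap.id)) = s) :
    ∃ (u : Fin s → Fin m ⊕ Fin m → F) (c : Fin s → Fin s → F), IsData (spBilin m F) (spLin g) u c := by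
  subst hs
  exact exists_isData spBilin_isAlt spBilin_nondegenerate (spLin g) (spLin_form g)
    fun x => by rw [← spLin_mul, hg]; simp [spLin]

omit [Finite F] in
theorem sp_exists_involution {s : ℕ} (hs : 1 ≤ s) (u : Fin s → Fin m ⊕ Fin m → F)
    (c : Fin s → Fin s → F) (hu : LinearIndependent F u) (huu : ∀ i j, spBilin m F (u i) (u j) = 0)
    (hcs : ∀ a b, cForm c a b = cForm c b a) (hcn : ∀ a, (∀ b, cForm c a b = 0) → a = 0) :
    ∃ g : symplecticGroup (Fin m) F, orderOf g = 2 ∧
      spType g = (s, ∀ a, cForm c a a = 0) := by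
  obtain ⟨t, ht⟩ := exists_of_frame (B := spBilin m F) u c hu huu hcs hcn
  obtain ⟨g, hg⟩ := spMk_exists t.toLinearMap (ht.preserves spBilin_isAlt)
  have hgt : spLin g = t.toLinearMap := LinearMap.ext hg
  have hd : IsData (spBilin m F) (spLin g) u c := hgt ▸ ht
  have hr := hd.rank spBilin_nondegenerate
  refine ⟨g, orderOf_eq_prime ?_ fun e => ?_,
    Prod.ext hr (propext (hd.alt_iff spBilin_isAlt spBilin_nondegenerate))⟩
  · rw [sq]
    exact spLin_ext fun x => by rw [spLin_mul, hd.involutive]; simp [spLin]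
  · rw [e, show spLin (1 : symplecticGroup (Fin m) F) + LinearMap.id = 0 from LinearMap.ext fun x => by
      show spLin 1 x + x = 0
      rw [show spLin 1 x = x by simp [spLin]]
      funext i
      exact CharTwo.add_self_eq_zero _, LinearMap.range_zero, finrank_bot] at hr
    omega

theorem sp_isConj_of_type {g h : symplecticGroup (Fin m) F} (hg : g * g = 1) (hh : h * h = 1)
    (ht : spType g = spType h) : ∃ k : symplecticGroup (Fin m) F, k * g = h * k := by
  obtain ⟨hs, ha⟩ := Prod.mk.injEq .. ▸ ht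
  obtain ⟨s, hs'⟩ : ∃ s, Module.finrank F (LinearMap.range (spLin g + LinearMap.id)) = s := ⟨_, rfl⟩
  obtain ⟨u₀, c₀, h₀⟩ := sp_exists_data hg hs'
  obtain ⟨u₁, c₁, h₁⟩ := sp_exists_data hh (hs.symm.trans hs')
  have hA : (spBilin m F).IsAlt := spBilin_isAlt
  have hN : (spBilin m F).Nondegenerate := spBilin_nondegenerate
  have key : ∃ (c : Fin s → Fin s → F) (u w : Fin s → Fin m ⊕ Fin m → F),
      IsData (spBilin m F) (spLin g) u c ∧ IsData (spBilin m F) (spLin h) w c := by
    rcases exists_standard hA hN h₀ with ⟨hga, -, u, hu⟩ | ⟨⟨v, hv⟩, u, hu⟩ <;>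
      rcases exists_standard hA hN h₁ with ⟨hha, -, w, hw⟩ | ⟨⟨v', hv'⟩, w, hw⟩
    · exact ⟨_, u, w, hu, hw⟩
    · exact absurd ((ha ▸ hga : ∀ v, spBilin m F v (spLin h v) = 0) v') hv'
    · exact absurd ((ha.symm ▸ hha : ∀ v, spBilin m F v (spLin g v) = 0) v) hv
    · exact ⟨_, u, w, hu, hw⟩
  obtain ⟨c, u, w, hu, hw⟩ := key
  let bb := Module.Basis.span hu.li
  let φ := bb.constr F w
  have hφb : ∀ i, φ (bb i) = w i := fun i => bb.constr_basis F w i
  have hbb : ∀ i, ((bb i : Submodule.span F (Set.range u)) : Fin m ⊕ Fin m → F) = u i := fun i => by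
    simp [bb, Module.Basis.span_apply]
  have hrep : ∀ x : Submodule.span F (Set.range u), (x : Fin m ⊕ Fin m → F) = ∑ i, bb.repr x i • u i := fun x => by
    have := congrArg Subtype.val (bb.sum_repr x)
    rw [Submodule.coe_sum] at this
    simp only [Submodule.coe_smul, hbb] at this
    exact this.symm
  have hφ : ∀ x, φ x = ∑ i, bb.repr x i • w i := fun x => by
    conv_lhs => rw [← bb.sum_repr x]
    rw [map_sum]
    simp only [map_smul, hφb]
  have hinj : Function.Injective φ := (injective_iff_map_eq_zero φ).2 fun x hx => by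
    rw [hφ] at hx
    have h := Fintype.linearIndependent_iff.1 hw.li _ hx
    exact Subtype.ext (by rw [hrep]; simp [h])
  have hiso : ∀ {v : Fin s → Fin m ⊕ Fin m → F}, (∀ i j, spBilin m F (v i) (v j) = 0) →
      ∀ a b : Fin s → F, spBilin m F (∑ i, a i • v i) (∑ i, b i • v i) = 0 := fun hv a b => by
    simp only [map_sum, LinearMap.sum_apply, map_smul, LinearMap.smul_apply, hv, smul_zero,
      Finset.sum_const_zero]
  obtain ⟨k, hk, hka⟩ := witt_alt (spBilin m F) hA (fun v hv => sympForm_nondeg hv) _ φ hinj (fun x y => by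
    rw [hφ, hφ, hrep x, hrep y, hiso hu.iso, hiso hw.iso])
  obtain ⟨k', hk'⟩ := spMk_exists k.toLinearMap hk
  have hk'' : ∀ x, spLin k' x = k x := hk'
  refine ⟨k', spLin_ext fun x => ?_⟩
  rw [spLin_mul, spLin_mul, hk'', hk'']
  exact hu.conj hw k hk (fun i => by rw [← hbb, hka, hφb]) x

omit [CharP F 2] [Finite F] in
theorem spType_conj (k g : symplecticGroup (Fin m) F) : spType (k * g * k⁻¹) = spType g := by
  have hap : ∀ x, spLin (k * g * k⁻¹) (spLin k x) = spLin k (spLin g x) := fun x => by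
    rw [← spLin_mul, inv_mul_cancel_right, spLin_mul]
  let e : (Fin m ⊕ Fin m → F) ≃ₗ[F] (Fin m ⊕ Fin m → F) := LinearEquiv.ofLinear (spLin k) (spLin k⁻¹)
    (LinearMap.ext fun x => by show spLin k (spLin k⁻¹ x) = x; rw [← spLin_mul, mul_inv_cancel]; simp [spLin])
    (LinearMap.ext fun x => by show spLin k⁻¹ (spLin k x) = x; rw [← spLin_mul, inv_mul_cancel]; simp [spLin])
  refine Prod.ext ?_ (propext ⟨fun h v => ?_, fun h v => ?_⟩)
  · show Module.finrank F _ = Module.finrank F _
    rw [← LinearEquiv.finrank_map_eq e (LinearMap.range (spLin g + LinearMap.id)), ← LinearMap.range_comp,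
      show e.toLinearMap ∘ₗ (spLin g + LinearMap.id) = (spLin (k * g * k⁻¹) + LinearMap.id) ∘ₗ e.toLinearMap from
        LinearMap.ext fun x => by
          show spLin k (spLin g x + x) = spLin (k * g * k⁻¹) (spLin k x) + spLin k x
          rw [hap, map_add],
      LinearMap.range_comp_of_range_eq_top _ (LinearEquiv.range e)]
  · have h1 := h (spLin k v)
    rwa [hap, spLin_form] at h1
  · obtain ⟨w, rfl⟩ := e.surjective v
    show spBilin m F (spLin k w) (spLin (k * g * k⁻¹) (spLin k w)) = 0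
    rw [hap, spLin_form]
    exact h w

/-- Classes of involutions of the symplectic group. -/
theorem sp_card_classes (m : ℕ) : Nat.card {C : ConjClasses (symplecticGroup (Fin m) F) //
    ∃ g : symplecticGroup (Fin m) F, ConjClasses.mk g = C ∧ orderOf g = 2} = m + m / 2 := by
  have hsq : ∀ {g : symplecticGroup (Fin m) F}, orderOf g = 2 → g * g = 1 := fun hg => by
    rw [← sq, ← hg, pow_orderOf_eq_one]
  have hframe : ∀ s ≤ m, ∃ u : Fin s → Fin m ⊕ Fin m → F, LinearIndependent F u ∧
      ∀ i j, spBilin m F (u i) (u j) = 0 := fun s hs => by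
    refine ⟨fun i => Sum.elim (fun j => if (j : ℕ) = i then 1 else 0) 0,
      li_of_pick _ (fun i => .inl (Fin.castLE hs i)) (fun i j => ?_), fun i j => ?_⟩
    · simp [Fin.ext_iff, eq_comm]
    · show sympForm m F _ _ = 0
      simp [sympForm, Matrix.J, Matrix.mulVec, dotProduct, Matrix.one_apply]
  have := CharTwoInv.card_classes (G := symplecticGroup (Fin m) F) spType
    (fun x : Fin m ⊕ Fin (m / 2) => Sum.elim (fun i : Fin m => ((i : ℕ) + 1, False))
      (fun i : Fin (m / 2) => (2 * ((i : ℕ) + 1), True)) x) ?_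
    (fun g h _ hc => by obtain ⟨k, rfl⟩ := isConj_iff.1 hc; exact (spType_conj k g).symm) ?_ ?_ ?_
  · rw [this, Nat.card_sum, Nat.card_fin, Nat.card_fin]
  · rintro (i | i) (j | j) e <;> simp [Fin.ext_iff] at e ⊢ <;> omega
  · intro g h hg hh e
    obtain ⟨k, hk⟩ := sp_isConj_of_type (hsq hg) (hsq hh) e
    exact isConj_iff.2 ⟨k, by rw [hk, mul_inv_cancel_right]⟩
  · intro g hg
    obtain ⟨u, c, hd⟩ := sp_exists_data (hsq hg) rfl
    set r := Module.finrank F (LinearMap.range (spLin g + LinearMap.id)) with hr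
    have h2 := isotropic_card_le spBilin_isAlt spBilin_nondegenerate hd.li hd.iso
    rw [Module.finrank_pi, Fintype.card_sum, Fintype.card_fin] at h2
    have h1 : 1 ≤ r := by
      by_contra h0
      have : IsEmpty (Fin r) := by rw [show r = 0 by omega]; infer_instance
      have hg1 : g = 1 := spLin_ext fun x => by
        rw [hd.eq, tLin_apply, Finset.sum_eq_zero fun i _ => absurd i.2 (by omega)]
        simp [spLin]
      rw [hg1, orderOf_one] at hg
      omega
    by_cases ha : ∀ v, spBilin m F v (spLin g v) = 0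
    · obtain ⟨n, hn⟩ := even_of_alt hd.nd ((hd.alt_iff spBilin_isAlt spBilin_nondegenerate).1 ha)
      exact ⟨.inr ⟨n - 1, by omega⟩, Prod.ext (by show r = 2 * (n - 1 + 1); omega)
        (propext ⟨fun _ => trivial, fun _ => ha⟩)⟩
    · exact ⟨.inl ⟨r - 1, by omega⟩, Prod.ext (by show r = r - 1 + 1; omega)
        (propext ⟨fun h => ha h, False.elim⟩)⟩
  · rintro (i | i)
    · obtain ⟨u, hu, huu⟩ := hframe ((i : ℕ) + 1) (by omega)
      obtain ⟨c1, c2, c3⟩ := cOne_props (F := F) ((i : ℕ) + 1)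
      obtain ⟨g, hg, ht⟩ := sp_exists_involution (by omega) u _ hu huu c1 c2
      obtain ⟨a, haa⟩ := c3 (by omega)
      exact ⟨g, hg, ht.trans (Prod.ext rfl (propext ⟨fun h => haa (h a), False.elim⟩))⟩
    · obtain ⟨u, hu, huu⟩ := hframe (2 * ((i : ℕ) + 1)) (by have := i.2; omega)
      obtain ⟨c1, c2, c3⟩ := cAlt_props (F := F) (s := 2 * ((i : ℕ) + 1)) ⟨(i : ℕ) + 1, by omega⟩
      obtain ⟨g, hg, ht⟩ := sp_exists_involution (by omega) u _ hu huu c1 c2
      exact ⟨g, hg, ht.trans (Prod.ext rfl (propext ⟨fun _ => trivial, fun _ => c3⟩))⟩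

end CfsgLib.KnownSimple.CharTwoInv
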