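import Cfsg.Agent.Lib.KnownSimple.CharTwoInv.SpCentralizer
import Cfsg.Agent.Lib.KnownSimple.OrthOmega

/-!
Centralisers of involutions of the hyperbolic orthogonal group in characteristic two.
-/

set_option autoImplicit false

namespace CfsgLib.KnownSimple.CharTwoInv

open Matrix Cfsg CfsgLib.Classical

variable {F : Type*} [Field F] [CharP F 2] {m : ℕ}

local notation "V" => (Fin m ⊕ Fin m → F)
local notation "QP" => qPlus m F
local notation "f" => sympForm m F
local notation "Sp" => Matrix.symplecticGroup (Fin m) F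

/-- The Artin-Schreier elements. -/
def asHom : F →+ F where
  toFun b := b * b + b
  map_zero' := by ring
  map_add' a b := by linear_combination (a * b) * CharTwo.two_eq_zero (R := F)

/-- The form of `quadFormPlus` is the symplectic form. -/
theorem polar_qPlus_eq (x y : V) : QuadraticMap.polar QP x y = f x y := by
  have h : ∀ v, QP v = ∑ i, v (.inl i) * v (.inr i) := fun v => by simp [qPlus]
  rw [QuadraticMap.polar, h, h, h, sympForm_eq, ← Finset.sum_sub_distrib, ← Finset.sum_sub_distrib]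
  refine Finset.sum_congr rfl fun i _ => ?_
  simp only [Pi.add_apply]
  linear_combination (x (.inl i) * y (.inr i)) * CharTwo.two_eq_zero (R := F)

theorem q_add (x y : V) : QP (x + y) = QP x + QP y + f x y := by
  rw [← polar_qPlus_eq, quad_add]

theorem q_smul (a : F) (x : V) : QP (a • x) = a * a * QP x := by
  rw [quad_smul]

/-- The vector measuring how far a symplectic map is from an isometry. -/
def HasW (g : Sp) (w : V) : Prop := ∀ v, QP (g.1 *ᵥ v) = QP v + f w v ^ 2

theorem hasW_unique {g : Sp} {w w' : V} (h : HasW g w) (h' : HasW g w') : w = w' := by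
  refine sub_eq_zero.1 (sympForm_nondeg fun v => ?_)
  have e : f w v ^ 2 = f w' v ^ 2 := add_left_cancel ((h v).symm.trans (h' v))
  rw [sympForm_sub_left, CharTwo.sub_eq_add]
  have e' : (f w v + f w' v) ^ 2 = 0 := by rw [CharTwo.add_sq, e, CharTwo.add_self_eq_zero]
  exact pow_eq_zero_iff (by norm_num) |>.1 e'

theorem exists_hasW [Finite F] (g : Sp) : ∃ w, HasW g w := by
  haveI : Fact (Nat.Prime 2) := ⟨Nat.prime_two⟩
  haveI := Fintype.ofFinite F
  have hsq : ∀ a : F, ∃ b, b ^ 2 = a := fun a => by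
    obtain ⟨b, hb⟩ := FiniteField.isSquare_of_char_two (ringChar.eq F 2) a
    exact ⟨b, by rw [hb, sq]⟩
  choose r hr using hsq
  have hinj : ∀ a b : F, a ^ 2 = b ^ 2 → a = b := fun a b e => by
    have e' : (a + b) ^ 2 = 0 := by rw [CharTwo.add_sq, e, CharTwo.add_self_eq_zero]
    exact CharTwo.add_eq_zero.1 (pow_eq_zero_iff (by norm_num) |>.1 e')
  let φ : V →ₗ[F] F :=
    { toFun := fun v => r (QP (g.1 *ᵥ v) + QP v)
      map_add' := fun u v => hinj _ _ (by
        rw [CharTwo.add_sq, hr, hr, hr, mulVec_add, q_add, q_add, sp_form]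
        linear_combination f u v * CharTwo.two_eq_zero (R := F))
      map_smul' := fun c v => hinj _ _ (by
        simp only [hr, RingHom.id_apply, smul_eq_mul, mul_pow, mulVec_smul, q_smul]
        ring) }
  refine ⟨((spBilin m F).toDual spBilin_nondegenerate).symm φ, fun v => ?_⟩
  rw [← spBilin_apply, LinearMap.BilinForm.apply_toDual_symm_apply]
  show _ = QP v + r (QP (g.1 *ᵥ v) + QP v) ^ 2
  rw [hr, add_comm (QP (g.1 *ᵥ v)), ← add_assoc, CharTwo.add_self_eq_zero, zero_add]

theorem hasW_mul {g h : Sp} {w w' : V} (hg : HasW g w) (hh : HasW h w') :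
    HasW (g * h) ((h⁻¹).1 *ᵥ w + w') := fun v => by
  rw [Submonoid.coe_mul, ← mulVec_mulVec, hg, hh, sympForm_add_left, CharTwo.add_sq,
    ← sp_form h ((h⁻¹).1 *ᵥ w) v, sp_mulVec_inv]
  ring

theorem hasW_one : HasW (1 : Sp) 0 := fun v => by simp [sympForm_zero_left]

set_option maxHeartbeats 1000000 in
/-- The class of `Q(w)` is a homomorphism, trivial on transvections. -/
theorem as_of_hasW [Finite F] (g : Sp) : ∀ w, HasW g w → QP w ∈ (asHom (F := F)).range := by
  have hg : g ∈ Subgroup.closure {A : Sp | ∃ (w : V) (c : F),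
      (A : Matrix (Fin m ⊕ Fin m) (Fin m ⊕ Fin m) F) = sympTransvection m w c} := by
    rw [spT_closure_eq_top]; trivial
  haveI := Fintype.ofFinite F
  have hmul : ∀ x y : Sp, ∀ wx wy : V, HasW x wx → HasW y wy →
      QP ((y⁻¹).1 *ᵥ wx + wy) + (QP wx + QP wy) ∈ (asHom (F := F)).range := fun x y wx wy _ hy => by
    refine ⟨f wy ((y⁻¹).1 *ᵥ wx), ?_⟩
    have e := hy ((y⁻¹).1 *ᵥ wx)
    rw [sp_mulVec_inv] at e
    rw [q_add, sympForm_swap _ ((y⁻¹).1 *ᵥ wx), CharTwo.neg_eq]
    show f wy ((y⁻¹).1 *ᵥ wx) * f wy ((y⁻¹).1 *ᵥ wx) + f wy ((y⁻¹).1 *ᵥ wx) = _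
    rw [e]
    linear_combination -(QP ((y⁻¹).1 *ᵥ wx) + QP wy) * CharTwo.two_eq_zero (R := F)
  induction hg using Subgroup.closure_induction with
  | mem A hA =>
    obtain ⟨v, c, hA⟩ := hA
    intro w hw
    obtain ⟨r, hr⟩ := FiniteField.isSquare_of_char_two (ringChar.eq F 2) (c + c * c * QP v)
    have hA' : A = spT v c := Subtype.ext hA
    have hw' : HasW A (r • v) := fun z => by
      rw [hA', spT_apply, q_add, q_smul, sympForm_smul_right, sympForm_smul_left, sympForm_swap z v,
        CharTwo.neg_eq]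
      linear_combination (f z v ^ 2) * hr
    rw [hasW_unique hw hw', q_smul, ← hr]
    exact ⟨c * QP v, by show c * QP v * (c * QP v) + c * QP v = _; ring⟩
  | one =>
    intro w hw
    rw [hasW_unique hw hasW_one, map_zero]
    exact zero_mem _
  | mul x y _ _ hx hy =>
    intro w hw
    obtain ⟨wx, hwx⟩ := exists_hasW x
    obtain ⟨wy, hwy⟩ := exists_hasW y
    rw [hasW_unique hw (hasW_mul hwx hwy)]
    have := add_mem (hmul x y wx wy hwx hwy) (add_mem (hx wx hwx) (hy wy hwy))
    rwa [add_assoc, CharTwo.add_self_eq_zero, add_zero] at this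
  | inv x _ hx =>
    intro w hw
    obtain ⟨wx, hwx⟩ := exists_hasW x
    have h0 := hasW_mul hwx hw
    rw [mul_inv_cancel] at h0
    have := hmul x x⁻¹ wx w hwx hw
    rw [hasW_unique h0 hasW_one, map_zero, zero_add] at this
    have h2 := add_mem this (hx wx hwx)
    rwa [add_comm (QP wx), add_assoc, CharTwo.add_self_eq_zero, add_zero] at h2

/-- A transvection along `w` realising `w`. -/
theorem exists_spT_hasW {w : V} (h : QP w ∈ (asHom (F := F)).range) : ∃ a, HasW (spT w a) w := by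
  obtain ⟨b, hb⟩ := h
  have hb' : b * b + b = QP w := hb
  classical
  refine ⟨if QP w = 0 then 1 else b / QP w, fun z => ?_⟩
  rw [spT_apply, q_add, q_smul, sympForm_smul_right, sympForm_swap z w, CharTwo.neg_eq]
  split_ifs with h0
  · rw [h0]; ring
  · field_simp
    linear_combination (f z w ^ 2) * hb'

/-- The symplectic isometries of `Q`. -/
def spIso (m : ℕ) (F : Type*) [Field F] [CharP F 2] : Subgroup (Matrix.symplecticGroup (Fin m) F) where
  carrier := {g | ∀ v, qPlus m F (g.1 *ᵥ v) = qPlus m F v}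
  one_mem' v := by simp
  mul_mem' {a b} ha hb v := by rw [Submonoid.coe_mul, ← mulVec_mulVec, ha, hb]
  inv_mem' {a} ha v := by conv_rhs => rw [← sp_mulVec_inv a v, ha]

/-- Orbit counting on the forms `Q + f(w, ·)^2`. -/
theorem card_eq_mul_fixed [Fintype F] (C : Subgroup Sp) (X : Set V)
    (h1 : ∀ g ∈ C, ∀ w, HasW g w → w ∈ X) (h2 : ∀ w ∈ X, ∀ a, spT w a ∈ C) :
    Nat.card C = Nat.card ↥(C ⊓ spIso m F) * Nat.card {w : V // w ∈ X ∧ QP w ∈ (asHom (F := F)).range} := by
  classical
  rw [← Nat.card_prod]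
  choose ag hag using fun (w : {w : V // w ∈ X ∧ QP w ∈ (asHom (F := F)).range}) => exists_spT_hasW w.2.2
  have hkey : ∀ (k : ↥(C ⊓ spIso m F)) (w : {w : V // w ∈ X ∧ QP w ∈ (asHom (F := F)).range}),
      HasW ((k : Sp) * spT w.1 (ag w)) w.1 := fun k w z => by
    rw [Submonoid.coe_mul, ← mulVec_mulVec, k.2.2, hag]
  refine (Nat.card_eq_of_bijective
    (fun p => ((⟨(p.1 : Sp) * spT p.2.1 (ag p.2), C.mul_mem p.1.2.1 (h2 _ p.2.2.1 _)⟩ : C)))
    ⟨?_, ?_⟩).symm
  · rintro ⟨k, w⟩ ⟨k', w'⟩ e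
    have e' : (k : Sp) * spT w.1 (ag w) = (k' : Sp) * spT w'.1 (ag w') := congrArg Subtype.val e
    have h' := hkey k' w'
    rw [← e'] at h'
    obtain rfl : w = w' := Subtype.ext (hasW_unique (hkey k w) h')
    exact Prod.ext (Subtype.ext (mul_right_cancel e')) rfl
  · rintro ⟨g, hg⟩
    obtain ⟨w, hw⟩ := exists_hasW g
    let w' : {w : V // w ∈ X ∧ QP w ∈ (asHom (F := F)).range} := ⟨w, h1 g hg _ hw, as_of_hasW g _ hw⟩
    have hk : g * (spT w (ag w'))⁻¹ ∈ C ⊓ spIso m F := by
      refine ⟨C.mul_mem hg (C.inv_mem (h2 _ w'.2.1 _)), fun v => ?_⟩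
      rw [Submonoid.coe_mul, ← mulVec_mulVec, hw]
      conv_rhs => rw [← sp_mulVec_inv (spT w (ag w')) v, hag w']
    exact ⟨(⟨_, hk⟩, w'), Subtype.ext (inv_mul_cancel_right _ _)⟩

/-- The isometry group inside the symplectic group. -/
theorem exists_iso_hom : ∃ ι : isometryGroup F ⇑QP →* Sp, Function.Injective ι ∧ ι.range = spIso m F ∧
    ∀ g, (ι g).1 = ((g : GL (Fin m ⊕ Fin m) F) : Matrix (Fin m ⊕ Fin m) (Fin m ⊕ Fin m) F) := by
  have hmem : ∀ g : isometryGroup F ⇑QP,
      ((g : GL (Fin m ⊕ Fin m) F) : Matrix (Fin m ⊕ Fin m) (Fin m ⊕ Fin m) F) ∈ symplecticGroup (Fin m) F :=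
    fun g => mem_sp_iff.2 fun u v => by
      rw [← polar_qPlus_eq, ← polar_qPlus_eq]
      exact iso_polar QP g u v
  refine ⟨{ toFun := fun g => ⟨_, hmem g⟩, map_one' := rfl, map_mul' := fun g h => rfl },
    fun g h e => Subtype.ext (Units.ext (congrArg Subtype.val e)), ?_, fun g => rfl⟩
  ext g
  constructor
  · rintro ⟨g, rfl⟩ v
    exact isoApply_Q g v
  · intro hg
    refine ⟨isoMk g.1.mulVecLin (sp_mulVec_injective g) hg, ?_⟩
    exact sp_ext fun v => isoMk_apply g.1.mulVecLin (sp_mulVec_injective g) hg v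

/-- Counting Artin-Schreier values on a space with a vector of value one in its radical. -/
theorem card_as_half [Fintype F] (X : Submodule F V) {u : V} (hu : u ∈ X) (hQu : QP u ≠ 0)
    (hperp : ∀ w ∈ X, f w u = 0) :
    2 * Nat.card {w : V // w ∈ (X : Set V) ∧ QP w ∈ (asHom (F := F)).range} = Nat.card X := by
  classical
  have hidx : (asHom (F := F)).range.index = 2 := by
    have h1 := (asHom (F := F)).range.index_mul_card
    have h2 := (asHom (F := F)).ker.index_mul_card
    rw [AddSubgroup.index_ker] at h2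
    have h3 : Nat.card (asHom (F := F)).ker = 2 := by
      rw [Nat.card_eq_two_iff]
      refine ⟨⟨0, map_zero _⟩, ⟨1, CharTwo.add_self_eq_zero (1 : F) |> fun e => by
        show (1 : F) * 1 + 1 = 0; rw [one_mul]; exact e⟩, fun e => zero_ne_one (congrArg Subtype.val e),
        Set.eq_univ_iff_forall.2 fun ⟨b, hb⟩ => ?_⟩
      have hb' : b * (b + 1) = 0 := by rw [← (show asHom b = 0 from hb)]; show _ = b * b + b; ring
      rcases mul_eq_zero.1 hb' with h | h
      · left; exact Subtype.ext h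
      · right; exact Subtype.ext (CharTwo.add_eq_zero.1 h)
    rw [h3] at h2
    exact Nat.eq_of_mul_eq_mul_right (Nat.card_pos (α := (asHom (F := F)).range))
      (h1.trans (h2.symm.trans (mul_comm _ _)))
  obtain ⟨c, hc⟩ : ∃ c : F, c ∉ (asHom (F := F)).range := by
    by_contra h
    push Not at h
    rw [show (asHom (F := F)).range = ⊤ from eq_top_iff.2 fun x _ => h x, AddSubgroup.index_top] at hidx
    omega
  obtain ⟨r, hr⟩ := FiniteField.isSquare_of_char_two (ringChar.eq F 2) (c / QP u)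
  have hshift : ∀ w ∈ X, QP (w + r • u) = QP w + c := fun w hw => by
    rw [q_add, q_smul, ← hr, div_mul_cancel₀ _ hQu, sympForm_smul_right, hperp w hw, mul_zero, add_zero]
  have hflip : ∀ x : F, x + c ∈ (asHom (F := F)).range ↔ x ∉ (asHom (F := F)).range := fun x => by
    rw [AddSubgroup.add_mem_iff_of_index_two hidx]
    simp [hc]
  have e : {w : V // w ∈ (X : Set V) ∧ QP w ∈ (asHom (F := F)).range} ≃
      {w : X // ¬ QP (w : V) ∈ (asHom (F := F)).range} :=
    { toFun := fun w => ⟨⟨w.1 + r • u, X.add_mem w.2.1 (X.smul_mem _ hu)⟩, by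
        show ¬ QP (w.1 + r • u) ∈ _
        rw [hshift _ w.2.1, hflip]; exact not_not.2 w.2.2⟩
      invFun := fun w => ⟨w.1.1 + r • u, X.add_mem w.1.2 (X.smul_mem _ hu), by
        rw [hshift _ w.1.2, hflip]; exact w.2⟩
      left_inv := fun w => Subtype.ext (by
        show w.1 + r • u + r • u = w.1
        rw [add_assoc, ← add_smul, CharTwo.add_self_eq_zero, zero_smul, add_zero])
      right_inv := fun w => Subtype.ext (Subtype.ext (by
        show w.1.1 + r • u + r • u = w.1.1
        rw [add_assoc, ← add_smul, CharTwo.add_self_eq_zero, zero_smul, add_zero])) }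
  have e2 : {w : V // w ∈ (X : Set V) ∧ QP w ∈ (asHom (F := F)).range} ≃
      {w : X // QP (w : V) ∈ (asHom (F := F)).range} :=
    { toFun := fun w => ⟨⟨w.1, w.2.1⟩, w.2.2⟩
      invFun := fun w => ⟨w.1.1, w.1.2, w.2⟩
      left_inv := fun w => rfl
      right_inv := fun w => rfl }
  rw [two_mul]
  nth_rewrite 1 [Nat.card_congr e2]
  rw [Nat.card_congr e, ← Nat.card_sum, Nat.card_congr (Equiv.sumCompl _)]

/-- The setting: an involutory isometry seen in the symplectic group. -/
theorem card_centralizer_iso [Fintype F] (x : isometryGroup F ⇑QP) (hx : x ^ 2 = 1) :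
    ∃ t : Sp, t ^ 2 = 1 ∧
      t.1 = ((x : GL (Fin m ⊕ Fin m) F) : Matrix (Fin m ⊕ Fin m) (Fin m ⊕ Fin m) F) ∧
      (∀ v, QP ((t.1 - 1) *ᵥ v) = f v (t.1 *ᵥ v)) ∧
      Nat.card (Subgroup.centralizer ({t} : Set Sp)) =
        Nat.card (Subgroup.centralizer ({x} : Set (isometryGroup F ⇑QP))) *
          Nat.card {w : V // w ∈ (LinearMap.ker (t.1 - 1).mulVecLin : Set V) ∧
            QP w ∈ (asHom (F := F)).range} := by
  obtain ⟨ι, hι, hrange, hmat⟩ := exists_iso_hom (F := F) (m := m)
  have ht : (ι x) ^ 2 = 1 := by rw [← map_pow, hx, map_one]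
  have hQT : ∀ v, QP (((ι x).1 - 1) *ᵥ v) = f v ((ι x).1 *ᵥ v) := fun v => by
    have hxs : ι x ∈ ι.range := ⟨x, rfl⟩
    rw [hrange] at hxs
    have hxv : QP ((ι x).1 *ᵥ v) = QP v := hxs v
    rw [sub_mulVec, one_mulVec, show (ι x).1 *ᵥ v - v = v + (ι x).1 *ᵥ v by
      funext i; simp [CharTwo.sub_eq_add, add_comm], q_add, hxv, CharTwo.add_self_eq_zero, zero_add]
  refine ⟨ι x, ht, hmat x, hQT, ?_⟩
  have hfix : ∀ w : V, w ∈ LinearMap.ker ((ι x).1 - 1).mulVecLin ↔ (ι x).1 *ᵥ w = w := fun w => by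
    rw [LinearMap.mem_ker, mulVecLin_apply, sub_mulVec, one_mulVec, sub_eq_zero]
  rw [card_eq_mul_fixed (Subgroup.centralizer ({ι x} : Set Sp))
    (LinearMap.ker ((ι x).1 - 1).mulVecLin : Set V)]
  · congr 1
    refine (Nat.card_congr (Equiv.ofBijective
      (fun g : Subgroup.centralizer ({x} : Set (isometryGroup F ⇑QP)) =>
        (⟨ι g, Subgroup.mem_centralizer_singleton_iff.2 (by
          rw [← map_mul, ← map_mul, Subgroup.mem_centralizer_singleton_iff.1 g.2]),
          (congrArg (fun H : Subgroup Sp => ι g ∈ H) hrange).mp ⟨g, rfl⟩⟩ : ↥(Subgroup.centralizer ({ι x} : Set Sp) ⊓ spIso m F)))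
      ⟨fun g h e => Subtype.ext (hι (congrArg Subtype.val e)), fun k => ?_⟩)).symm
    obtain ⟨g, hg⟩ : (k : Sp) ∈ ι.range := by rw [hrange]; exact k.2.2
    refine ⟨⟨g, Subgroup.mem_centralizer_singleton_iff.2 (hι ?_)⟩, Subtype.ext hg⟩
    rw [map_mul, map_mul, hg]
    exact Subgroup.mem_centralizer_singleton_iff.1 k.2.1
  · intro g hg w hw
    rw [SetLike.mem_coe, hfix]
    have hcomm : ∀ v, g.1 *ᵥ ((ι x).1 *ᵥ v) = (ι x).1 *ᵥ (g.1 *ᵥ v) := fun v => by
      rw [mulVec_mulVec, mulVec_mulVec, ← Submonoid.coe_mul, ← Submonoid.coe_mul,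
        Subgroup.mem_centralizer_singleton_iff.1 hg]
    refine sub_eq_zero.1 (sympForm_nondeg fun v => ?_)
    have htt : ∀ z, (ι x).1 *ᵥ ((ι x).1 *ᵥ z) = z := fun z => by
      rw [mulVec_mulVec, ← Submonoid.coe_mul, ← sq, ht, Submonoid.coe_one, one_mulVec]
    have h1 := hw (((ι x).1 - 1) *ᵥ v)
    have h2 : g.1 *ᵥ (((ι x).1 - 1) *ᵥ v) = ((ι x).1 - 1) *ᵥ (g.1 *ᵥ v) := by
      rw [sub_mulVec, sub_mulVec, one_mulVec, one_mulVec, mulVec_sub, hcomm]
    rw [h2, hQT, hQT, ← hcomm, sp_form, left_eq_add, pow_eq_zero_iff (by norm_num)] at h1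
    rw [sympForm_sub_left, ← sp_form (ι x) ((ι x).1 *ᵥ w) v, htt, ← sympForm_sub_right]
    rwa [sub_mulVec, one_mulVec] at h1
  · intro w hw a
    rw [SetLike.mem_coe, hfix] at hw
    rw [Subgroup.mem_centralizer_singleton_iff]
    have h := spT_conj (ι x) w a
    rw [hw] at h
    conv_lhs => rw [← h]
    rw [inv_mul_cancel_right]

/-- The order of the symplectic group through the isometry group. -/
theorem card_plus_mul [Fintype F] :
    Nat.card (qAut QP) * Nat.card {w : V // QP w ∈ (asHom (F := F)).range} = Nat.card Sp := by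
  obtain ⟨ι, hι, hrange, -⟩ := exists_iso_hom (F := F) (m := m)
  have h := card_eq_mul_fixed (F := F) (m := m) ⊤ Set.univ (fun _ _ _ _ => trivial) (fun _ _ _ => trivial)
  rw [Subgroup.card_top, top_inf_eq] at h
  rw [h]
  congr 1
  · rw [← hrange, ← Nat.card_congr (isoEquiv QP).toEquiv]
    exact Nat.card_congr (MonoidHom.ofInjective hι).toEquiv
  · exact Nat.card_congr (Equiv.subtypeEquivRight fun w => by simp)

/-- Counting Artin-Schreier values on the perpendicular of a totally singular subspace. -/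
theorem card_as_singular [Fintype F] {s d : ℕ} (hm : m = s + d) (U : Submodule F V)
    (hs : Module.finrank F U = s) (hU : ∀ u ∈ U, QP u = 0) :
    Nat.card {w : V // (∀ u ∈ U, f w u = 0) ∧ QP w ∈ (asHom (F := F)).range} =
      Fintype.card F ^ s *
        Nat.card {w : Fin d ⊕ Fin d → F // qPlus d F w ∈ (asHom (F := F)).range} := by
  classical
  subst hm
  let lo : Submodule F (Fin (s + d) ⊕ Fin (s + d) → F) :=
    LinearMap.range (LinearMap.pi (fun k => match k with
      | .inl i => Fin.addCases (fun j : Fin s => LinearMap.proj (R := F) (φ := fun _ : Fin s => F) j)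
          (fun _ => 0) i
      | .inr _ => 0))
  have hlo : ∀ v, v ∈ lo ↔ (∀ j : Fin d, v (.inl (Fin.natAdd s j)) = 0) ∧ ∀ i, v (.inr i) = 0 := fun v => by
    constructor
    · rintro ⟨c, rfl⟩
      exact ⟨fun j => by simp, fun i => by simp⟩
    · rintro ⟨h1, h2⟩
      refine ⟨fun j => v (.inl (Fin.castAdd d j)), funext fun k => ?_⟩
      rcases k with i | i
      · refine Fin.addCases (fun j => ?_) (fun j => ?_) i <;> simp [h1]
      · simp [h2]
  have hq : ∀ v : Fin (s + d) ⊕ Fin (s + d) → F, qPlus (s + d) F v =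
      ∑ i, v (.inl i) * v (.inr i) := fun v => by simp [qPlus]
  have hlo0 : ∀ v ∈ lo, qPlus (s + d) F v = 0 := fun v hv => by
    rw [hq]
    exact Finset.sum_eq_zero fun i _ => by rw [((hlo v).1 hv).2 i, mul_zero]
  have hlod : Module.finrank F lo = s := by
    rw [LinearMap.finrank_range_of_inj (fun a b h => funext fun j => by
      simpa using congrFun h (.inl (Fin.castAdd d j)))]
    simp
  obtain ⟨g, hg⟩ := OrthOmega.exists_move_singular' (polarNondeg_qPlus (s + d))
    (U := lo) (W := U) (hlod.trans hs.symm) hlo0 hU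
  have hperp : ∀ v, (∀ u ∈ lo, sympForm (s + d) F v u = 0) ↔ ∀ j : Fin s, v (.inr (Fin.castAdd d j)) = 0 := by
    intro v
    constructor
    · intro h j
      have := h (Pi.single (.inl (Fin.castAdd d j)) 1) ((hlo _).2 ⟨fun k => by
        refine Pi.single_eq_of_ne (fun e => ?_) _
        have := congrArg Fin.val (Sum.inl_injective e)
        simp only [Fin.val_natAdd, Fin.val_castAdd] at this
        omega, fun i => by simp⟩)
      rw [sympForm_swap, neg_eq_zero] at this
      rw [← sympForm_single_inl v (Fin.castAdd d j)]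
      rw [sympForm_swap]
      simp [this]
    · intro h u hu
      rw [sympForm_eq]
      refine Finset.sum_eq_zero fun i _ => ?_
      obtain ⟨h1, h2⟩ := (hlo u).1 hu
      refine Fin.addCases (fun j => ?_) (fun j => ?_) i
      · simp [h, h2]
      · simp [h1, h2]
  have e1 : {w : Fin (s + d) ⊕ Fin (s + d) → F // (∀ u ∈ U, sympForm (s + d) F w u = 0) ∧
        qPlus (s + d) F w ∈ (asHom (F := F)).range} ≃
      {w : Fin (s + d) ⊕ Fin (s + d) → F // (∀ j : Fin s, w (.inr (Fin.castAdd d j)) = 0) ∧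
        qPlus (s + d) F w ∈ (asHom (F := F)).range} :=
    (Equiv.subtypeEquiv g.1.toEquiv fun w => by
      show _ ↔ (∀ u ∈ U, sympForm (s + d) F (g.1 w) u = 0) ∧ qPlus (s + d) F (g.1 w) ∈ _
      rw [qAut_map g w, ← hperp, ← hg]
      refine and_congr_left' ⟨fun h u hu => ?_, fun h u hu => ?_⟩
      · obtain ⟨u', hu', rfl⟩ := hu
        show sympForm (s + d) F (g.1 w) (g.1 u') = 0
        rw [← polar_qPlus_eq, qAut_polar, polar_qPlus_eq]
        exact h u' hu'
      · have := h _ ⟨u, hu, rfl⟩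
        change sympForm (s + d) F (g.1 w) (g.1 u) = 0 at this
        rwa [← polar_qPlus_eq, qAut_polar, polar_qPlus_eq] at this).symm
  have hsplit : ∀ w : Fin (s + d) ⊕ Fin (s + d) → F, (∀ j : Fin s, w (.inr (Fin.castAdd d j)) = 0) →
      qPlus (s + d) F w = qPlus d F (Sum.elim (fun j => w (.inl (Fin.natAdd s j)))
        fun j => w (.inr (Fin.natAdd s j))) := fun w h => by
    rw [hq, Fin.sum_univ_add]
    simp [qPlus, h]
  rw [Nat.card_congr e1]
  have e2 : {w : Fin (s + d) ⊕ Fin (s + d) → F // (∀ j : Fin s, w (.inr (Fin.castAdd d j)) = 0) ∧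
        qPlus (s + d) F w ∈ (asHom (F := F)).range} ≃
      (Fin s → F) × {w : Fin d ⊕ Fin d → F // qPlus d F w ∈ (asHom (F := F)).range} :=
    { toFun := fun w => (fun j => w.1 (.inl (Fin.castAdd d j)),
        ⟨Sum.elim (fun j => w.1 (.inl (Fin.natAdd s j))) fun j => w.1 (.inr (Fin.natAdd s j)),
          hsplit _ w.2.1 ▸ w.2.2⟩)
      invFun := fun p => ⟨Sum.elim (Fin.addCases p.1 fun j => p.2.1 (.inl j))
        (Fin.addCases (fun _ => 0) fun j => p.2.1 (.inr j)),
        fun j => by simp, by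
          rw [hsplit _ (fun j => by simp)]
          convert p.2.2 using 2
          funext k; rcases k with k | k <;> simp⟩
      left_inv := fun w => Subtype.ext (funext fun k => by
        rcases k with i | i <;> refine Fin.addCases (fun j => ?_) (fun j => ?_) i <;> simp [w.2.1])
      right_inv := fun p => Prod.ext (funext fun j => by simp)
        (Subtype.ext (funext fun k => by rcases k with k | k <;> simp)) }
  rw [Nat.card_congr e2, Nat.card_prod, Nat.card_fun, Nat.card_eq_fintype_card, Nat.card_fin]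

/-- Half of the centraliser lies in the commutator, given a fixed non-singular vector. -/
theorem card_omega_half [Fintype F] (hm : 1 ≤ m) (h : Fintype.card F ≠ 2 ∨ m ≠ 2)
    (x : isometryGroup F ⇑QP) {u : V} (hu : QP u ≠ 0) (hfix : isoApply x u = u) :
    2 * Nat.card {g : ↥(Omega F ⇑QP) // (g : isometryGroup F ⇑QP) * x = x * (g : isometryGroup F ⇑QP)} =
      Nat.card (Subgroup.centralizer ({x} : Set (isometryGroup F ⇑QP))) := by
  have hV : Module.finrank F V = 2 * m := by
    rw [Module.finrank_fintype_fun_eq_card, Fintype.card_sum, Fintype.card_fin, two_mul]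
  have hex : Fintype.card F ≠ 2 ∨ Module.finrank F V ≠ 4 := by
    rcases h with h | h
    · exact Or.inl h
    · exact Or.inr (by rw [hV]; omega)
  have hn : 2 ≤ Fintype.card (Fin m ⊕ Fin m) := by simp; omega
  have hidx : (Omega F ⇑QP).index = 2 := index_Omega_two QP (polarNondeg_qPlus m) hn (by
    rcases h with h | h
    · exact Or.inl h
    · exact Or.inr (by simp; omega))
  set C := Subgroup.centralizer ({x} : Set (isometryGroup F ⇑QP))
  obtain ⟨D, hD⟩ := exists_parity QP (polarNondeg_qPlus m) hex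
  have hnot : reflect QP u hu ∉ Omega F ⇑QP := fun hmem => by
    have := Abelianization.commutator_subset_ker D ((OrthOmega.mem_Omega_iff QP _).1 hmem)
    rw [MonoidHom.mem_ker, isoEquiv_reflect_self, hD] at this
    exact absurd (congrArg Multiplicative.toAdd this) (by decide)
  have hC : reflect QP u hu ∈ C := Subgroup.mem_centralizer_singleton_iff.2 (iso_ext fun v => by
    rw [isoApply_mul, isoApply_mul, reflect_apply, reflect_apply]
    have hp : QuadraticMap.polar QP (isoApply x v) u = QuadraticMap.polar QP v u := by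
      conv_lhs => rw [← hfix]
      exact iso_polar QP x v u
    simp only [isoApply] at hfix hp ⊢
    rw [mulVec_sub, mulVec_smul, hfix, hp])
  haveI : (Omega F ⇑QP).Normal := Subgroup.normal_of_index_eq_two hidx
  have hri : (Omega F ⇑QP).relIndex C = 2 := by
    have h1 : (Omega F ⇑QP).relIndex C ∣ (Omega F ⇑QP).index :=
      Subgroup.relIndex_dvd_index_of_normal _ _
    rw [hidx] at h1
    rcases (Nat.dvd_prime Nat.prime_two).1 h1 with h1 | h1
    · exact absurd ((Subgroup.relIndex_eq_one.1 h1) hC) hnot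
    · exact h1
  have h2 := ((Omega F ⇑QP).subgroupOf C).index_mul_card
  rw [show ((Omega F ⇑QP).subgroupOf C).index = 2 from hri] at h2
  rw [← h2]
  congr 1
  exact Nat.card_congr
    { toFun := fun g => ⟨⟨g.1, Subgroup.mem_centralizer_singleton_iff.2 g.2⟩, g.1.2⟩
      invFun := fun g => ⟨⟨g.1.1, g.2⟩, Subgroup.mem_centralizer_singleton_iff.1 g.1.2⟩
      left_inv := fun g => rfl
      right_inv := fun g => rfl }

/-- Types b and c. -/
theorem card_omega_centralizer_nonalt [Fintype F] {s : ℕ} (h : Fintype.card F ≠ 2 ∨ m ≠ 2)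
    (x : isometryGroup F ⇑QP) (hx : x ^ 2 = 1)
    (hs : (((x : GL (Fin m ⊕ Fin m) F) : Matrix (Fin m ⊕ Fin m) (Fin m ⊕ Fin m) F) - 1).rank = s)
    (hna : ∃ v, QP ((((x : GL (Fin m ⊕ Fin m) F) : Matrix (Fin m ⊕ Fin m) (Fin m ⊕ Fin m) F) - 1) *ᵥ v) ≠ 0) :
    ∃ β : LinearMap.BilinForm F (Fin s → F), (∀ a b, β a b = β b a) ∧
      (∀ a, (∀ b, β a b = 0) → a = 0) ∧ (∃ a, β a a ≠ 0) ∧ s ≤ m ∧ 1 ≤ s ∧
      ∃ e, 2 * e = s * (s + 1) + 4 * s * (m - s) ∧
        Nat.card {g : ↥(Omega F ⇑QP) // (g : isometryGroup F ⇑QP) * x = x * (g : isometryGroup F ⇑QP)} *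
            Fintype.card F ^ (2 * m - s) =
          Fintype.card F ^ e * Nat.card (symplecticGroup (Fin (m - s)) F) * Nat.card (LIso β) := by
  obtain ⟨t, ht, htx, hQT, hcard⟩ := card_centralizer_iso x hx
  rw [← htx] at hs hna
  obtain ⟨hsm, β, hsy, hnd, halt, e, he, hsp⟩ := card_centralizer_eq t ht hs
  obtain ⟨v, hv⟩ := hna
  have hna' : ∃ a, β a a ≠ 0 := by
    by_contra hc
    push Not at hc
    exact hv (by rw [hQT]; exact halt.2 hc v)
  have hs1 : 1 ≤ s := by
    obtain ⟨a, ha⟩ := hna'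
    rcases Nat.eq_zero_or_pos s with rfl | hp
    · exact absurd (by rw [show a = 0 from Subsingleton.elim _ _, map_zero]) ha
    · exact hp
  refine ⟨β, hsy, hnd, hna', hsm, hs1, e, he, ?_⟩
  set u := (t.1 - 1) *ᵥ v
  have htt : ∀ z, t.1 *ᵥ (t.1 *ᵥ z) = z := fun z => by
    rw [mulVec_mulVec, ← Submonoid.coe_mul, ← sq, ht, Submonoid.coe_one, one_mulVec]
  have hmemX : ∀ w, w ∈ LinearMap.ker (t.1 - 1).mulVecLin ↔ t.1 *ᵥ w = w := fun w => by
    rw [LinearMap.mem_ker, mulVecLin_apply, sub_mulVec, one_mulVec, sub_eq_zero]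
  have huX : u ∈ LinearMap.ker (t.1 - 1).mulVecLin := by
    rw [hmemX]
    show t.1 *ᵥ ((t.1 - 1) *ᵥ v) = (t.1 - 1) *ᵥ v
    rw [sub_mulVec, one_mulVec, mulVec_sub, htt]
    funext i
    simp [CharTwo.sub_eq_add, add_comm]
  have hhalf := card_as_half (LinearMap.ker (t.1 - 1).mulVecLin) huX hv fun w hw => by
    show f w ((t.1 - 1) *ᵥ v) = 0
    rw [sub_mulVec, one_mulVec, sympForm_sub_right]
    conv_lhs => rw [← (hmemX w).1 hw]
    rw [sp_form, (hmemX w).1 hw, sub_self]
  have hX : Nat.card (LinearMap.ker (t.1 - 1).mulVecLin) = Fintype.card F ^ (2 * m - s) := by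
    rw [Module.natCard_eq_pow_finrank (K := F), Nat.card_eq_fintype_card]
    congr 1
    have h1 := (t.1 - 1).mulVecLin.finrank_range_add_finrank_ker
    rw [Module.finrank_fintype_fun_eq_card, Fintype.card_sum, Fintype.card_fin,
      show Module.finrank F (LinearMap.range (t.1 - 1).mulVecLin) = s from hs] at h1
    omega
  have hhalf2 := card_omega_half (by omega) h x hv (by
    show ((x : GL (Fin m ⊕ Fin m) F) : Matrix (Fin m ⊕ Fin m) (Fin m ⊕ Fin m) F) *ᵥ u = u
    rw [← htx]
    exact (hmemX u).1 huX)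
  rw [← hsp, hcard, ← hhalf2, ← hX, ← hhalf]
  ring

/-- Type a. -/
theorem card_omega_centralizer_alt [Fintype F] {s : ℕ} (h : Fintype.card F ≠ 2 ∨ m ≠ 2)
    (x : isometryGroup F ⇑QP) (hx : x ^ 2 = 1) (hs0 : 1 ≤ s)
    (hs : (((x : GL (Fin m ⊕ Fin m) F) : Matrix (Fin m ⊕ Fin m) (Fin m ⊕ Fin m) F) - 1).rank = s)
    (halt : ∀ v, QP ((((x : GL (Fin m ⊕ Fin m) F) : Matrix (Fin m ⊕ Fin m) (Fin m ⊕ Fin m) F) - 1) *ᵥ v) = 0) :
    ∃ β : LinearMap.BilinForm F (Fin s → F), (∀ a, β a a = 0) ∧
      (∀ a, (∀ b, β a b = 0) → a = 0) ∧ s ≤ m ∧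
      ∃ e, 2 * e = s * (s + 1) + 4 * s * (m - s) ∧
        (if s = m then 1 else 2) *
          Nat.card {g : ↥(Omega F ⇑QP) // (g : isometryGroup F ⇑QP) * x = x * (g : isometryGroup F ⇑QP)} *
            Fintype.card F ^ s =
          Fintype.card F ^ e * Nat.card (qAut (qPlus (m - s) F)) * Nat.card (LIso β) := by
  obtain ⟨t, ht, htx, hQT, hcard⟩ := card_centralizer_iso x hx
  rw [← htx] at hs halt
  obtain ⟨hsm, β, -, hnd, halt', e, he, hsp⟩ := card_centralizer_eq t ht hs
  refine ⟨β, halt'.1 fun v => (hQT v).symm.trans (halt v), hnd, hsm, e, he, ?_⟩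
  set U : Submodule F V := LinearMap.range (t.1 - 1).mulVecLin with hUdef
  have hU : ∀ u ∈ U, QP u = 0 := by
    rintro _ ⟨v, rfl⟩
    exact halt v
  have hmemX : ∀ w, w ∈ LinearMap.ker (t.1 - 1).mulVecLin ↔ t.1 *ᵥ w = w := fun w => by
    rw [LinearMap.mem_ker, mulVecLin_apply, sub_mulVec, one_mulVec, sub_eq_zero]
  have htt : ∀ z, t.1 *ᵥ (t.1 *ᵥ z) = z := fun z => by
    rw [mulVec_mulVec, ← Submonoid.coe_mul, ← sq, ht, Submonoid.coe_one, one_mulVec]
  have hperp : ∀ w, w ∈ LinearMap.ker (t.1 - 1).mulVecLin ↔ ∀ u ∈ U, f w u = 0 := fun w => by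
    rw [hmemX]
    constructor
    · rintro hw _ ⟨v, rfl⟩
      rw [mulVecLin_apply, sub_mulVec, one_mulVec, sympForm_sub_right]
      conv_lhs => rw [← hw]
      rw [sp_form, hw, sub_self]
    · intro h1
      refine sub_eq_zero.1 (sympForm_nondeg fun v => ?_)
      have h2 := h1 _ ⟨v, rfl⟩
      rw [mulVecLin_apply, sub_mulVec, one_mulVec, sympForm_sub_right] at h2
      rw [sympForm_sub_left, ← sp_form t (t.1 *ᵥ w) v, htt]
      exact h2
  have hS := card_as_singular (Nat.add_sub_cancel' hsm).symm U (show Module.finrank F U = s from hs) hU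
  have hS' : Nat.card {w : V // w ∈ (LinearMap.ker (t.1 - 1).mulVecLin : Set V) ∧
      QP w ∈ (asHom (F := F)).range} =
      Nat.card {w : V // (∀ u ∈ U, f w u = 0) ∧ QP w ∈ (asHom (F := F)).range} :=
    Nat.card_congr (Equiv.subtypeEquivRight fun w => and_congr_left' (hperp w))
  have hplus := card_plus_mul (F := F) (m := m - s)
  rw [hcard, hS', hS] at hsp
  set T := Nat.card {w : Fin (m - s) ⊕ Fin (m - s) → F // qPlus (m - s) F w ∈ (asHom (F := F)).range}
  have hT : 0 < T := by
    haveI : Nonempty {w : Fin (m - s) ⊕ Fin (m - s) → F // qPlus (m - s) F w ∈ (asHom (F := F)).range} :=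
      ⟨⟨0, by rw [map_zero]; exact zero_mem _⟩⟩
    exact Nat.card_pos
  rw [← hplus] at hsp
  have hom : (if s = m then 1 else 2) *
      Nat.card {g : ↥(Omega F ⇑QP) // (g : isometryGroup F ⇑QP) * x = x * (g : isometryGroup F ⇑QP)} =
      Nat.card (Subgroup.centralizer ({x} : Set (isometryGroup F ⇑QP))) := by
    split_ifs with hms
    · rw [one_mul]
      have hV : Module.finrank F V = 2 * m := by
        rw [Module.finrank_fintype_fun_eq_card, Fintype.card_sum, Fintype.card_fin, two_mul]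
      refine Nat.card_congr
        { toFun := fun g => ⟨g.1, Subgroup.mem_centralizer_singleton_iff.2 g.2⟩
          invFun := fun g => ⟨⟨g.1, ?_⟩, Subgroup.mem_centralizer_singleton_iff.1 g.2⟩
          left_inv := fun g => rfl
          right_inv := fun g => rfl }
      rw [OrthOmega.mem_Omega_iff, OrthOmega.mem_commutator_iff_class (polarNondeg_qPlus m) hV
        (U := U) (hs.trans hms) hU (by omega) (by
          rcases h with h | h
          · exact Or.inl h
          · exact Or.inr (by rw [hV]; omega))]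
      have hle : U.map (isoEquiv QP g.1).1.toLinearMap ≤ U := by
        rintro _ ⟨_, ⟨v, rfl⟩, rfl⟩
        refine ⟨isoApply g.1 v, ?_⟩
        show (t.1 - 1) *ᵥ isoApply g.1 v = isoApply g.1 ((t.1 - 1) *ᵥ v)
        have hc := congrArg (fun k : isometryGroup F ⇑QP =>
          ((k : GL (Fin m ⊕ Fin m) F) : Matrix (Fin m ⊕ Fin m) (Fin m ⊕ Fin m) F))
          (Subgroup.mem_centralizer_singleton_iff.1 g.2)
        simp only [Subgroup.coe_mul, Units.val_mul] at hc
        rw [← htx] at hc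
        simp only [isoApply, mulVec_mulVec]
        rw [sub_mul, mul_sub, hc, one_mul, mul_one]
      rw [show U.map (isoEquiv QP g.1).1.toLinearMap = U from
        Submodule.eq_of_le_of_finrank_eq hle (LinearEquiv.finrank_map_eq _ U), inf_idem,
        show Module.finrank F U = m from hs.trans hms, Nat.sub_self]
      exact ⟨0, rfl⟩
    · obtain ⟨u, hu, hQu⟩ : ∃ u, t.1 *ᵥ u = u ∧ QP u ≠ 0 := by
        by_contra hc
        push Not at hc
        have h1 := CfsgLib.Classical22.two_mul_finrank_singular QP (polarNondeg_qPlus m)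
          (W := LinearMap.ker (t.1 - 1).mulVecLin) fun w hw => hc w ((hmemX w).1 hw)
        have h2 := (t.1 - 1).mulVecLin.finrank_range_add_finrank_ker
        rw [Module.finrank_fintype_fun_eq_card, Fintype.card_sum, Fintype.card_fin,
          show Module.finrank F (LinearMap.range (t.1 - 1).mulVecLin) = s from hs] at h2
        rw [Module.finrank_fintype_fun_eq_card, Fintype.card_sum, Fintype.card_fin] at h1
        omega
      exact card_omega_half (by omega) h x hQu (by rw [show isoApply x u = t.1 *ᵥ u by rw [htx]]; exact hu)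
  rw [hom]
  refine Nat.eq_of_mul_eq_mul_right hT ?_
  rw [mul_assoc, hsp]
  ring

end CfsgLib.KnownSimple.CharTwoInv
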