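import Cfsg.Agent.Lib.KnownSimple.CharTwoInv.SymForm
import Cfsg.Agent.Lib.Classical.SpFrames

/-!
Centralisers of involutions of `Sp_{2m}(q)`, `q` even.
-/

set_option autoImplicit false

namespace CfsgLib.KnownSimple.CharTwoInv

open Matrix Cfsg CfsgLib.Classical

variable {F : Type*} [Field F] [CharP F 2] {m : ℕ}

local notation "V" => (Fin m ⊕ Fin m → F)

omit [CharP F 2] in
/-- Dual vectors of an independent family. -/
theorem exists_dual {s : ℕ} {u : Fin s → V} (hu : LinearIndependent F u) :
    ∀ a : Fin s → F, ∃ x : V, ∀ j, sympForm m F x (u j) = a j := by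
  classical
  let L : V →ₗ[F] (Fin s → F) := LinearMap.pi fun j => (spBilin m F).flip (u j)
  have hL : Function.Surjective L := by
    rw [← LinearMap.dualMap_injective_iff, injective_iff_map_eq_zero]
    intro φ hφ
    refine LinearMap.ext fun a => ?_
    rw [LinearMap.zero_apply, show a = ∑ j, a j • (Pi.single j 1 : Fin s → F) by
      funext i; simp [Finset.sum_apply, Pi.single_apply]]
    have h0 : ∑ j, φ (Pi.single j 1) • u j = 0 := sympForm_nondeg fun w => by
      have h := LinearMap.congr_fun hφ w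
      rw [LinearMap.dualMap_apply, LinearMap.zero_apply,
        show L w = ∑ j, (L w j) • (Pi.single j 1 : Fin s → F) by
          funext i; simp [Finset.sum_apply, Pi.single_apply]] at h
      simp only [map_sum, map_smul, smul_eq_mul] at h
      rw [sympForm_swap, ← spBilin_apply, map_sum, neg_eq_zero]
      simpa [L, mul_comm] using h
    have h1 := Fintype.linearIndependent_iff.1 hu _ h0
    simp [h1]
  intro a
  obtain ⟨x, hx⟩ := hL a
  exact ⟨x, fun j => congrFun hx j⟩

/-- The form attached to coefficients. -/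
noncomputable def cForm {s : ℕ} (c : Fin s → Fin s → F) : LinearMap.BilinForm F (Fin s → F) :=
  Matrix.toBilin' (Matrix.of c)

omit [CharP F 2] in
theorem cForm_apply {s : ℕ} (c : Fin s → Fin s → F) (a a' : Fin s → F) :
    cForm c a a' = ∑ i, ∑ j, a i * c i j * a' j := by
  simp [cForm, Matrix.toBilin'_apply]

omit [CharP F 2] in
/-- The map `x ↦ Σ c i j f(x, u i) u j`. -/
def tMap {s : ℕ} (c : Fin s → Fin s → F) (u : Fin s → V) (x : V) : V :=
  ∑ i, ∑ j, (sympForm m F x (u i) * c i j) • u j

set_option maxHeartbeats 1000000 in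
/-- `t - 1` in the form `tMap`. -/
theorem exists_data {s : ℕ} (t : symplecticGroup (Fin m) F) (ht : t ^ 2 = 1)
    (hs : (t.1 - 1).rank = s) :
    s ≤ m ∧ ∃ (u : Fin s → V) (c : Fin s → Fin s → F), LinearIndependent F u ∧
      (∀ i j, sympForm m F (u i) (u j) = 0) ∧ (∀ x, t.1 *ᵥ x + x = tMap c u x) ∧
      (∀ a b, cForm c a b = cForm c b a) ∧ (∀ a, (∀ b, cForm c a b = 0) → a = 0) ∧
      ((∀ v, sympForm m F v (t.1 *ᵥ v) = 0) ↔ ∀ a, cForm c a a = 0) := by
  classical
  set T : Matrix (Fin m ⊕ Fin m) (Fin m ⊕ Fin m) F := t.1 - 1 with hT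
  have htt : ∀ x, t.1 *ᵥ (t.1 *ᵥ x) = x := fun x => by
    rw [mulVec_mulVec, ← Submonoid.coe_mul, ← sq, ht, Submonoid.coe_one, one_mulVec]
  have hTx : ∀ x, T *ᵥ x = t.1 *ᵥ x + x := fun x => by
    rw [hT, sub_mulVec, one_mulVec]
    funext i
    simp [CharTwo.sub_eq_add]
  have hsym : ∀ x y, sympForm m F (T *ᵥ x) y = sympForm m F x (T *ᵥ y) := fun x y => by
    rw [hTx, hTx, sympForm_add_left, sympForm_add_right]
    congr 1
    conv_lhs => rw [← sp_form t, htt]
  have hTT : ∀ x, T *ᵥ (T *ᵥ x) = 0 := fun x => by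
    rw [hTx (T *ᵥ x), hTx x, mulVec_add, htt]
    funext i
    simp only [Pi.add_apply, Pi.zero_apply]
    rw [add_comm (x i), CharTwo.add_self_eq_zero]
  let L := T.mulVecLin
  have hU : Module.finrank F (LinearMap.range L) = s := hs
  have hsm : s ≤ m := by
    have h1 := L.finrank_range_add_finrank_ker
    have h2 : LinearMap.range L ≤ LinearMap.ker L := by
      rintro _ ⟨x, rfl⟩
      exact LinearMap.mem_ker.2 (hTT x)
    have h3 := Submodule.finrank_mono h2
    simp only [Module.finrank_fintype_fun_eq_card, Fintype.card_sum, Fintype.card_fin] at h1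
    omega
  refine ⟨hsm, ?_⟩
  let b := Module.finBasisOfFinrankEq F (LinearMap.range L) hU
  let u : Fin s → V := fun i => (b i : V)
  have hu : LinearIndependent F u := b.linearIndependent.map' _ (LinearMap.range L).ker_subtype
  have huu : ∀ i j, sympForm m F (u i) (u j) = 0 := fun i j => by
    obtain ⟨x, hx⟩ := (b i).2
    obtain ⟨y, hy⟩ := (b j).2
    show sympForm m F (b i : V) (b j : V) = 0
    rw [← hx, ← hy]
    show sympForm m F (T *ᵥ x) (T *ᵥ y) = 0
    rw [hsym, hTT]
    simp [sympForm]
  choose w hw using fun i : Fin s => exists_dual hu (Pi.single i 1)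
  have hw' : ∀ i j, sympForm m F (w i) (u j) = if j = i then 1 else 0 := fun i j => by
    rw [hw i j, Pi.single_apply]
  let c : Fin s → Fin s → F := fun i => b.repr ⟨T *ᵥ w i, ⟨w i, rfl⟩⟩
  have hTw : ∀ i, T *ᵥ w i = ∑ j, c i j • u j := fun i => by
    have h := b.sum_repr ⟨T *ᵥ w i, ⟨w i, rfl⟩⟩
    have h' := congrArg Subtype.val h
    rw [Submodule.coe_sum] at h'
    exact h'.symm
  have hker : ∀ y, (∀ j, sympForm m F y (u j) = 0) → T *ᵥ y = 0 := fun y hy =>
    sympForm_nondeg fun z => by
      rw [hsym]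
      have h := b.sum_repr ⟨T *ᵥ z, ⟨z, rfl⟩⟩
      have h' := congrArg Subtype.val h
      rw [Submodule.coe_sum] at h'
      rw [show T *ᵥ z = _ from h'.symm, ← spBilin_apply, map_sum, Finset.sum_eq_zero fun j _ => ?_]
      rw [Submodule.coe_smul, map_smul, spBilin_apply, hy, smul_zero]
  have hTform : ∀ x, T *ᵥ x = ∑ i, ∑ j, (sympForm m F x (u i) * c i j) • u j := fun x => by
    have h0 : T *ᵥ (x - ∑ i, sympForm m F x (u i) • w i) = 0 := hker _ fun j => by
      rw [sympForm_sub_left, ← spBilin_apply (∑ i, _) (u j), map_sum]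
      simp [hw']
    rw [mulVec_sub, sub_eq_zero] at h0
    rw [h0, ← mulVecLin_apply, map_sum]
    refine Finset.sum_congr rfl fun i _ => ?_
    rw [map_smul, mulVecLin_apply, hTw, Finset.smul_sum]
    simp only [smul_smul]
  have hform : ∀ x y, sympForm m F y (T *ᵥ x) =
      ∑ i, ∑ j, sympForm m F x (u i) * c i j * sympForm m F y (u j) := fun x y => by
    rw [hTform, ← spBilin_apply, map_sum]
    simp [map_sum]
  let β : LinearMap.BilinForm F (Fin s → F) := cForm c
  have hβ : ∀ a a', β a a' = ∑ i, ∑ j, a i * c i j * a' j := cForm_apply c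
  have hβf : ∀ x y, sympForm m F y (T *ᵥ x) =
      β (fun i => sympForm m F x (u i)) (fun i => sympForm m F y (u i)) := fun x y => by
    rw [hβ, hform]
  choose coord hcoord using fun a : Fin s → F => exists_dual hu a
  have hcoord' : ∀ a, (fun i => sympForm m F (coord a) (u i)) = a := fun a => funext (hcoord a)
  refine ⟨u, c, hu, huu, fun x => (hTx x).symm.trans (hTform x), fun a a' => ?_, fun a ha => ?_,
    ⟨fun h a => ?_, fun h v => ?_⟩⟩
  · change β a a' = β a' a
    rw [← hcoord' a, ← hcoord' a', ← hβf, ← hβf, ← hsym, sympForm_swap, CharTwo.neg_eq]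
  · funext i
    have h0 : T *ᵥ coord a = 0 := sympForm_nondeg fun y => by
      rw [sympForm_swap, hβf, hcoord', show β a _ = 0 from ha _, neg_zero]
    show a i = 0
    rw [← hcoord a i]
    obtain ⟨z, hz⟩ := (b i).2
    show sympForm m F (coord a) (b i : V) = 0
    rw [← hz]
    show sympForm m F (coord a) (T *ᵥ z) = 0
    rw [← hsym, h0]
    simp [sympForm]
  · change β a a = 0
    have h1 := hβf (coord a) (coord a)
    rw [hcoord'] at h1
    rw [← h1, hTx, sympForm_add_right, h, sympForm_self, add_zero]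
  · have h1 := hβf v v
    rw [hTx, sympForm_add_right, sympForm_self, add_zero] at h1
    rw [h1]
    exact h _

omit [CharP F 2] in
/-- The frames carrying the same map correspond to the isometries of the form. -/
theorem card_frames [Fintype F] {s : ℕ} (u : Fin s → V) (c : Fin s → Fin s → F)
    (hu : LinearIndependent F u) (huu : ∀ i j, sympForm m F (u i) (u j) = 0)
    (hsy : ∀ a b, cForm c a b = cForm c b a) (hnd : ∀ a, (∀ b, cForm c a b = 0) → a = 0) :
    Nat.card {f : IsoFrame F (sympForm m F) s // ∀ x, tMap c u x = tMap c f.1 x} =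
      Nat.card (LIso (cForm c)) := by
  classical
  let β : LinearMap.BilinForm F (Fin s → F) := cForm c
  have hβ : ∀ a a', β a a' = ∑ i, ∑ j, a i * c i j * a' j := cForm_apply c
  choose coord hcoord using fun a : Fin s → F => exists_dual hu a
  have hcoord' : ∀ a, (fun i => sympForm m F (coord a) (u i)) = a := fun a => funext (hcoord a)
  let U : Submodule F V := Submodule.span F (Set.range u)
  let b := Module.Basis.span hu
  have hbu : ∀ i, ((b i : U) : V) = u i := fun i => by simp [b, Module.Basis.span_apply]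
  have hβT : ∀ x, tMap c u x = ∑ k, β (fun l => sympForm m F x (u l)) (Pi.single k 1) • u k := fun x => by
    rw [tMap, Finset.sum_comm]
    refine Finset.sum_congr rfl fun j _ => ?_
    simp [hβ, Finset.sum_smul, Pi.single_apply]
  let A : (Fin s → F) → (Fin s → (Fin s → F)) → (Fin s → F) :=
    fun a M i => ∑ k, M i k * a k
  have hexp : ∀ (M : Fin s → Fin s → F) (x : V),
      tMap c (fun i => ∑ k, M i k • u k) x =
        ∑ k, β (A (fun l => sympForm m F x (u l)) M) (A (Pi.single k 1) M) • u k := fun M x => by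
    have ha : ∀ i, sympForm m F x (∑ k, M i k • u k) = A (fun l => sympForm m F x (u l)) M i := by
      intro i
      rw [← spBilin_apply, map_sum]
      simp [A]
    have hAk : ∀ k j, A (Pi.single k 1) M j = M j k := fun k j => by simp [A, Pi.single_apply]
    simp only [tMap, ha, hAk, hβ, Finset.smul_sum, smul_smul, Finset.sum_smul]
    rw [Finset.sum_congr rfl fun i _ => Finset.sum_comm, Finset.sum_comm]
  let toL : (Fin s → Fin s → F) → ((Fin s → F) →ₗ[F] (Fin s → F)) := fun M =>
    Matrix.toLin' (Matrix.of M)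
  have htoL : ∀ M a, toL M a = A a M := fun M a => by
    funext i; simp [toL, A, Matrix.mulVec, dotProduct]
  have hYu : ∀ f : {f : IsoFrame F (sympForm m F) s // ∀ x, tMap c u x = tMap c f.1 x},
      ∀ i, f.1.1 i ∈ U := fun f => by
    have hle : U ≤ Submodule.span F (Set.range f.1.1) := by
      rw [Submodule.span_le]
      rintro _ ⟨k, rfl⟩
      have hsurj : ∃ a, ∀ l, β a (Pi.single l 1) = if l = k then 1 else 0 := by
        have hb : β.Nondegenerate := ⟨hnd, fun a ha => hnd a fun b => (hsy a b).trans (ha b)⟩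
        let φ : Module.Dual F (Fin s → F) := LinearMap.proj k
        refine ⟨(β.toDual hb).symm φ, fun l => ?_⟩
        rw [LinearMap.BilinForm.apply_toDual_symm_apply]
        simp [φ, Pi.single_apply, eq_comm]
      obtain ⟨a, ha⟩ := hsurj
      have h1 := f.2 (coord a)
      rw [hβT, hcoord'] at h1
      simp only [ha, ite_smul, one_smul, zero_smul, Finset.sum_ite_eq', Finset.mem_univ, if_true] at h1
      rw [SetLike.mem_coe, h1, tMap]
      exact Submodule.sum_mem _ fun i _ => Submodule.sum_mem _ fun j _ =>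
        Submodule.smul_mem _ _ (Submodule.subset_span ⟨j, rfl⟩)
    have heq := Submodule.eq_of_le_of_finrank_eq hle
      (by rw [finrank_span_eq_card hu, finrank_span_eq_card f.1.2.1])
    intro i
    rw [heq]
    exact Submodule.subset_span ⟨i, rfl⟩
  refine Nat.card_congr
    { toFun := fun f => ⟨toL fun i => b.repr ⟨f.1.1 i, hYu f i⟩, fun a a' => ?_⟩
      invFun := fun g => ⟨⟨fun i => ∑ k, LinearMap.toMatrix' g.1 i k • u k, ?_, ?_⟩, ?_⟩
      left_inv := fun f => ?_
      right_inv := fun g => ?_ }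
  · set M : Fin s → Fin s → F := fun i => b.repr ⟨f.1.1 i, hYu f i⟩ with hM
    have hf : ∀ i, f.1.1 i = ∑ k, M i k • u k := fun i => by
      have h' := congrArg Subtype.val (b.sum_repr ⟨f.1.1 i, hYu f i⟩)
      rw [Submodule.coe_sum] at h'
      simp only [Submodule.coe_smul, hbu] at h'
      exact h'.symm
    have h1 := f.2 (coord a)
    rw [show f.1.1 = fun i => ∑ k, M i k • u k from funext hf, hexp, hβT, hcoord'] at h1
    have h2 : ∀ k, β a (Pi.single k 1) = β (A a M) (A (Pi.single k 1) M) := fun k => by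
      have h3 := Fintype.linearIndependent_iff.1 hu
        (fun k => β a (Pi.single k 1) - β (A a M) (A (Pi.single k 1) M))
        (by simp [sub_smul, h1]) k
      exact sub_eq_zero.1 h3
    rw [show a' = ∑ k, a' k • (Pi.single k 1 : Fin s → F) by
      funext i; simp [Finset.sum_apply, Pi.single_apply]]
    change β _ _ = β _ _
    simp only [← htoL] at h2 ⊢
    simp only [map_sum, map_smul, h2]
  · have hinj := liso_injective (β := cForm c) hnd g
    rw [Fintype.linearIndependent_iff]
    intro a ha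
    simp only [Finset.smul_sum, smul_smul] at ha
    rw [Finset.sum_comm] at ha
    simp only [← Finset.sum_smul] at ha
    have h1 := Fintype.linearIndependent_iff.1 hu _ ha
    have hM : IsUnit (LinearMap.toMatrix' g.1) := Matrix.mulVec_injective_iff_isUnit.1 fun v w e => hinj (by
      simpa [LinearMap.toMatrix'_mulVec] using e)
    have h2 : Matrix.vecMul a (LinearMap.toMatrix' g.1) = 0 := funext h1
    exact fun i => congrFun ((Matrix.vecMul_injective_iff_isUnit.2 hM) (h2.trans (Matrix.zero_vecMul _).symm)) i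
  · intro i j
    rw [← spBilin_apply]
    simp [map_sum, huu]
  · intro x
    let N : Fin s → Fin s → F := fun i k => LinearMap.toMatrix' g.1 i k
    show tMap c u x = tMap c (fun i => ∑ k, N i k • u k) x
    rw [hexp N, hβT]
    refine Finset.sum_congr rfl fun k _ => ?_
    have hg : toL N = g.1 := Matrix.toLin'_toMatrix' g.1
    rw [← htoL, ← htoL, hg]
    exact congrArg (· • u k) (g.2 _ _).symm
  · refine Subtype.ext (Subtype.ext (funext fun i => ?_))
    have h' := congrArg Subtype.val (b.sum_repr ⟨f.1.1 i, hYu f i⟩)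
    rw [Submodule.coe_sum] at h'
    simp only [Submodule.coe_smul, hbu] at h'
    simp only [toL, LinearMap.toMatrix'_toLin', Matrix.of_apply]
    exact h'
  · refine Subtype.ext ?_
    have hg : toL (LinearMap.toMatrix' g.1) = g.1 := Matrix.toLin'_toMatrix' g.1
    conv_rhs => rw [← hg]
    show toL _ = toL _
    congr 1
    funext i k
    have hi : ∀ hp, (⟨∑ k, LinearMap.toMatrix' g.1 i k • u k, hp⟩ : U) =
        ∑ k, LinearMap.toMatrix' g.1 i k • b k := fun hp => Subtype.ext (by simp [hbu])
    simp only [hi]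
    rw [b.repr_sum_self]


/-- The order of the centraliser, by means of the form on the dual of the image of `t - 1`. -/
theorem card_centralizer_eq [Fintype F] {s : ℕ} (t : symplecticGroup (Fin m) F) (ht : t ^ 2 = 1)
    (hs : (t.1 - 1).rank = s) :
    s ≤ m ∧ ∃ β : LinearMap.BilinForm F (Fin s → F), (∀ a b, β a b = β b a) ∧
      (∀ a, (∀ b, β a b = 0) → a = 0) ∧
      ((∀ v, sympForm m F v (t.1 *ᵥ v) = 0) ↔ ∀ a, β a a = 0) ∧
      ∃ e, 2 * e = s * (s + 1) + 4 * s * (m - s) ∧
        Nat.card (Subgroup.centralizer ({t} : Set (symplecticGroup (Fin m) F))) =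
          Fintype.card F ^ e * Nat.card (symplecticGroup (Fin (m - s)) F) * Nat.card (LIso β) := by
  classical
  obtain ⟨hsm, u, c, hu, huu, hT, hsy, hnd, halt⟩ := exists_data t ht hs
  refine ⟨hsm, cForm c, hsy, hnd, halt, ?_⟩
  let f₀ : IsoFrame F (sympForm m F) s := ⟨u, hu, huu⟩
  let Y : Set (IsoFrame F (sympForm m F) s) := {f | ∀ x, tMap c u x = tMap c f.1 x}
  have hmem : ∀ g : symplecticGroup (Fin m) F,
      g ∈ Subgroup.centralizer ({t} : Set (symplecticGroup (Fin m) F)) ↔
      ∀ x, tMap c u x = tMap c (fun i => g.1 *ᵥ u i) x := fun g => by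
    have key : ∀ y, g.1 *ᵥ (tMap c u y) = tMap c (fun i => g.1 *ᵥ u i) (g.1 *ᵥ y) := fun y => by
      simp only [tMap, sp_form]
      rw [← mulVecLin_apply, map_sum]
      simp [map_sum]
    rw [Subgroup.mem_centralizer_singleton_iff]
    constructor
    · intro h x
      obtain ⟨y, rfl⟩ : ∃ y, g.1 *ᵥ y = x := ⟨g⁻¹.1 *ᵥ x, sp_mulVec_inv g x⟩
      rw [← key, ← hT, ← hT, mulVec_add, mulVec_mulVec, mulVec_mulVec, ← Submonoid.coe_mul,
        ← Submonoid.coe_mul, h]
    · intro h
      refine sp_ext fun y => ?_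
      have h1 := (h (g.1 *ᵥ y)).trans (key y).symm
      rw [← hT, ← hT, mulVec_add, add_left_inj] at h1
      rw [Submonoid.coe_mul, Submonoid.coe_mul, ← mulVec_mulVec, ← mulVec_mulVec, h1]
  obtain ⟨e, he, h⟩ := card_sp_setwise hsm f₀
    (Subgroup.centralizer ({t} : Set (symplecticGroup (Fin m) F))) Y fun g => by
      rw [hmem]
      constructor
      · intro hg f hf x
        rw [show f.1 = fun i => g.1 *ᵥ u i from funext hf]
        exact hg x
      · intro hg
        exact hg ⟨fun i => g.1 *ᵥ f₀.1 i,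
          f₀.2.1.map' g.1.mulVecLin (LinearMap.ker_eq_bot.2 (sp_mulVec_injective g)),
          fun i j => (sp_form g _ _).trans (f₀.2.2 i j)⟩ fun i => rfl
  refine ⟨e, he, ?_⟩
  rw [h, ← card_frames u c hu huu hsy hnd]
  rfl

/-- The halved exponents. -/
theorem exp_half {m s e : ℕ} (hsm : s ≤ m) (he : 2 * e = s * (s + 1) + 4 * s * (m - s)) :
    2 * m * s = e + (3 * s ^ 2 - s) / 2 := by
  obtain ⟨d, rfl⟩ := Nat.exists_eq_add_of_le hsm
  rw [Nat.add_sub_cancel_left] at he
  have h1 : s ≤ 3 * s ^ 2 := by nlinarith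
  have h2 : 2 * ((3 * s ^ 2 - s) / 2) = 3 * s ^ 2 - s := by
    refine Nat.mul_div_cancel' (Nat.dvd_iff_mod_eq_zero.2 ?_)
    rcases Nat.even_or_odd s with ⟨r, rfl⟩ | ⟨r, rfl⟩
    · rw [show 3 * (r + r) ^ 2 - (r + r) = 2 * (6 * r ^ 2 - r) by ring_nf; omega]
      omega
    · rw [show 3 * (2 * r + 1) ^ 2 - (2 * r + 1) = 2 * (6 * r ^ 2 + 5 * r + 1) by ring_nf; omega]
      omega
  generalize (3 * s ^ 2 - s) / 2 = d' at h2
  have h3 : 2 * d' + s = 3 * s ^ 2 := by omega
  nlinarith

end CfsgLib.KnownSimple.CharTwoInv
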