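import Cfsg.Agent.Lib.Classical.AltBasis
import Cfsg.Agent.Lib.Classical.SpOrder

/-!
Isometry groups of non-degenerate symmetric bilinear forms over finite fields of characteristic two.
-/

set_option autoImplicit false

namespace CfsgLib.KnownSimple.CharTwoInv

open Matrix CfsgLib.Classical

variable {F V : Type*} [Field F] [AddCommGroup V] [Module F V]

/-- Linear maps preserving a form. -/
abbrev LIso (β : LinearMap.BilinForm F V) : Type _ :=
  {g : V →ₗ[F] V // ∀ u v, β (g u) (g v) = β u v}

theorem liso_injective {β : LinearMap.BilinForm F V} (hB : ∀ v, (∀ w, β v w = 0) → v = 0)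
    (g : LIso β) : Function.Injective g.1 := by
  intro x y h
  refine sub_eq_zero.1 (hB _ fun w => ?_)
  rw [← g.2, map_sub, h, sub_self, map_zero, LinearMap.zero_apply]

/-- An alternating non-degenerate form has the symplectic group. -/
theorem card_liso_alt [Finite F] [FiniteDimensional F V] (β : LinearMap.BilinForm F V)
    (hA : β.IsAlt) (hB : ∀ v, (∀ w, β v w = 0) → v = 0) :
    ∃ k, Module.finrank F V = 2 * k ∧
      Nat.card (LIso β) = Nat.card (Matrix.symplecticGroup (Fin k) F) := by
  obtain ⟨k, hk, e, he⟩ := exists_symp_equiv β hA hB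
  refine ⟨k, hk, Nat.card_congr
    { toFun := fun g => ⟨LinearMap.toMatrix' (e.symm.toLinearMap ∘ₗ g.1 ∘ₗ e.toLinearMap), ?_⟩
      invFun := fun A => ⟨e.toLinearMap ∘ₗ Matrix.toLin' A.1 ∘ₗ e.symm.toLinearMap, fun u v => ?_⟩
      left_inv := fun g => ?_
      right_inv := fun A => ?_ }⟩
  · refine mem_sp_iff.2 fun u v => ?_
    rw [← Matrix.toLin'_apply, ← Matrix.toLin'_apply, Matrix.toLin'_toMatrix']
    simp only [LinearMap.comp_apply, LinearEquiv.coe_coe]
    rw [← he, e.apply_symm_apply, e.apply_symm_apply, g.2, he]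
  · simp only [LinearMap.comp_apply, LinearEquiv.coe_coe, Matrix.toLin'_apply]
    rw [he, sp_form, ← he, e.apply_symm_apply, e.apply_symm_apply]
  · refine Subtype.ext (LinearMap.ext fun v => ?_)
    simp
  · refine Subtype.ext ?_
    simp only
    rw [← LinearMap.toMatrix'_toLin' A.1]
    congr 1
    refine LinearMap.ext fun v => ?_
    simp

variable [Fintype F] [CharP F 2] [FiniteDimensional F V]

/-- The orders of the isometry groups of non-degenerate non-alternating symmetric forms. -/
theorem card_liso_nonalt (β : LinearMap.BilinForm F V) (hS : ∀ u v, β u v = β v u)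
    (hB : ∀ v, (∀ w, β v w = 0) → v = 0) (hna : ∃ v, β v v ≠ 0) :
    (∃ k, Module.finrank F V = 2 * k + 1 ∧
      Nat.card (LIso β) = Nat.card (Matrix.symplecticGroup (Fin k) F)) ∨
    (∃ k, Module.finrank F V = 2 * k + 2 ∧ Nat.card (LIso β) =
      Fintype.card F ^ (2 * k + 1) * Nat.card (Matrix.symplecticGroup (Fin k) F)) := by
  classical
  haveI : Fact (Nat.Prime 2) := ⟨Nat.prime_two⟩
  let σ : F ≃ F := (frobeniusEquiv F 2).toEquiv
  have hσ : ∀ a b : F, a ^ 2 = b ^ 2 → a = b := fun a b h =>
    σ.injective (by simpa [σ, frobeniusEquiv_apply, frobenius_def] using h)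
  have hsq : ∀ a : F, ∃ b, b ^ 2 = a := fun a =>
    ⟨σ.symm a, by simpa [σ, frobeniusEquiv_apply, frobenius_def] using σ.apply_symm_apply a⟩
  choose r hr using hsq
  let φ : V →ₗ[F] F :=
    { toFun := fun v => r (β v v)
      map_add' := fun u v => hσ _ _ (by
        rw [CharTwo.add_sq, hr, hr, hr]
        simp [hS u v]
        linear_combination (β v u) * CharTwo.two_eq_zero (R := F))
      map_smul' := fun c v => hσ _ _ (by
        simp only [hr, RingHom.id_apply, smul_eq_mul, mul_pow]
        simp
        ring) }
  have hBn : β.Nondegenerate := ⟨hB, fun v h => hB v fun w => (hS v w).trans (h w)⟩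
  set d := (β.toDual hBn).symm φ with hd'
  have hd : ∀ v, β v v = β v d ^ 2 := fun v => by
    rw [hS v d, hd', LinearMap.BilinForm.apply_toDual_symm_apply]
    exact (hr _).symm
  have hfix : ∀ g : LIso β, g.1 d = d := fun g => by
    have hsurj : Function.Surjective g.1 := LinearMap.surjective_of_injective (liso_injective hB g)
    refine sub_eq_zero.1 (hB _ fun w => ?_)
    obtain ⟨v, rfl⟩ := hsurj w
    rw [map_sub, LinearMap.sub_apply, g.2, sub_eq_zero, hS d v, hS d (g.1 v)]
    exact hσ _ _ (by rw [← hd, ← hd, g.2])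
  by_cases hdd : β d d = 0
  · right
    have hd0 : d ≠ 0 := fun h => by
      obtain ⟨v, hv⟩ := hna
      exact hv (by rw [hd, h]; simp)
    obtain ⟨e₀, he₀⟩ : ∃ w, β d w ≠ 0 := by
      by_contra h
      push Not at h
      exact hd0 (hB d h)
    obtain ⟨e, hed⟩ : ∃ e, β e d = 1 := ⟨(β d e₀)⁻¹ • e₀, by
      rw [map_smul, LinearMap.smul_apply, smul_eq_mul, hS e₀ d, inv_mul_cancel₀ he₀]⟩
    have hde : β d e = 1 := (hS _ _).trans hed
    have hee : β e e = 1 := by rw [hd, hed, one_pow]
    let W : Submodule F V := LinearMap.ker (β.flip d) ⊓ LinearMap.ker (β.flip e)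
    have hW : ∀ w : W, β (w : V) d = 0 ∧ β (w : V) e = 0 ∧ β d (w : V) = 0 ∧ β e (w : V) = 0 := fun w => by
      have h1 : β (w : V) d = 0 := w.2.1
      have h2 : β (w : V) e = 0 := w.2.2
      exact ⟨h1, h2, by rw [hS]; exact h1, by rw [hS]; exact h2⟩
    have hww : ∀ w : W, β (w : V) w = 0 := fun w => by rw [hd, (hW w).1]; simp
    let cx : V →ₗ[F] F := β.flip e - β.flip d
    let cy : V →ₗ[F] F := β.flip d
    let P : V →ₗ[F] W := LinearMap.codRestrict W (LinearMap.id - cx.smulRight d - cy.smulRight e)
      fun v => by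
        refine Submodule.mem_inf.2 ⟨?_, ?_⟩
        · simp [cx, cy, hdd, hed, hde]
        · simp [cx, cy, hdd, hed, hde, hee]
    have hdec : ∀ v, v = cx v • d + cy v • e + (P v : V) := fun v => by simp [P]
    let E : (F × F × W) ≃ₗ[F] V :=
      { toFun := fun p => p.1 • d + p.2.1 • e + (p.2.2 : V)
        invFun := fun v => (cx v, cy v, P v)
        map_add' := fun p p' => by simp only [Prod.fst_add, Prod.snd_add, Submodule.coe_add, add_smul]; abel
        map_smul' := fun c p => by simp [smul_add, smul_smul]
        left_inv := fun p => by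
          have hx : cx (p.1 • d + p.2.1 • e + (p.2.2 : V)) = p.1 := by
            simp [cx, hdd, hed, hde, hee, hW p.2.2]
          have hy : cy (p.1 • d + p.2.1 • e + (p.2.2 : V)) = p.2.1 := by
            simp [cy, hdd, hed, hW p.2.2]
          refine Prod.ext hx (Prod.ext hy (Subtype.ext ?_))
          show p.1 • d + p.2.1 • e + (p.2.2 : V) - cx _ • d - cy _ • e = _
          rw [hx, hy]; abel
        right_inv := fun v => (hdec v).symm }
    let β' : LinearMap.BilinForm F W := β.compl₁₂ W.subtype W.subtype
    have hB' : ∀ w, (∀ w', β' w w' = 0) → w = 0 := fun w h => Subtype.ext (hB _ fun v => by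
      rw [hdec v, map_add, map_add, map_smul, map_smul, (hW w).1, (hW w).2.1]
      simpa [β'] using h (P v))
    obtain ⟨k, hk, hcard⟩ := card_liso_alt β' (fun w => hww w) hB'
    have hfr : Module.finrank F V = 2 * k + 2 := by
      rw [← E.finrank_eq, Module.finrank_prod, Module.finrank_prod, Module.finrank_self, hk]
      omega
    refine ⟨k, hfr, ?_⟩
    have key : LIso β ≃ F × W × LIso β' :=
      { toFun := fun g => (cx (g.1 e), P (g.1 e),
          ⟨P ∘ₗ g.1 ∘ₗ W.subtype, fun u v => by
            have h1 : ∀ w : W, cy (g.1 (w : V)) = 0 := fun w => by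
              show β (g.1 (w : V)) d = 0
              rw [← hfix g, g.2]; exact (hW w).1
            show β (P (g.1 (u : V)) : V) (P (g.1 (v : V)) : V) = β (u : V) (v : V)
            rw [← g.2 (u : V) (v : V)]
            conv_rhs => rw [hdec (g.1 (u : V)), hdec (g.1 (v : V)), h1 u, h1 v]
            simp [hdd, hW (P (g.1 (u : V))), hW (P (g.1 (v : V)))]⟩)
        invFun := fun x => ⟨cx.smulRight d + cy.smulRight (e + x.1 • d + (x.2.1 : V)) +
            (W.subtype ∘ₗ x.2.2.1 ∘ₗ P) -
            ((β.flip (x.2.1 : V)) ∘ₗ W.subtype ∘ₗ x.2.2.1 ∘ₗ P).smulRight d, fun u v => by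
          have hh := x.2.2.2 (P u) (P v)
          simp only [β', LinearMap.compl₁₂_apply, Submodule.subtype_apply] at hh
          conv_rhs => rw [hdec u, hdec v]
          simp [hdd, hde, hed, hee, hW x.2.1, hW (x.2.2.1 (P u)), hW (x.2.2.1 (P v)), hW (P u),
            hW (P v), hww x.2.1, hh, hS (x.2.1 : V) (x.2.2.1 (P v) : V)]
          linear_combination (x.1 * cy u * cy v) * CharTwo.two_eq_zero (R := F)⟩
        left_inv := fun g => by
          refine Subtype.ext (LinearMap.ext fun v => ?_)
          have h1 : ∀ w : W, cy (g.1 (w : V)) = 0 := fun w => by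
            show β (g.1 (w : V)) d = 0
            rw [← hfix g, g.2]; exact (hW w).1
          have hye : cy (g.1 e) = 1 := by
            show β (g.1 e) d = 1
            rw [← hfix g, g.2]; exact hed
          have hx : ∀ w : W, cx (g.1 (w : V)) = -β (P (g.1 (w : V)) : V) (P (g.1 e) : V) := fun w => by
            have h := g.2 (w : V) e
            rw [(hW w).2.1, hdec (g.1 (w : V)), hdec (g.1 e), h1 w, hye] at h
            simp [hdd, hde, hW (P (g.1 (w : V))), hW (P (g.1 e))] at h
            exact eq_neg_of_add_eq_zero_left h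
          have hge : g.1 e = e + cx (g.1 e) • d + (P (g.1 e) : V) := by
            conv_lhs => rw [hdec (g.1 e), hye, one_smul]
            abel
          have hgw : ∀ w : W, g.1 (w : V) = (P (g.1 (w : V)) : V) -
              β (P (g.1 (w : V)) : V) (P (g.1 e) : V) • d := fun w => by
            conv_lhs => rw [hdec (g.1 (w : V)), h1 w, hx w]
            simp only [zero_smul, add_zero, neg_smul]
            abel
          conv_rhs => rw [hdec v, map_add, map_add, map_smul, map_smul, hfix g, hgw (P v)]
          simp only [LinearMap.sub_apply, LinearMap.add_apply, LinearMap.smulRight_apply,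
            LinearMap.comp_apply, Submodule.subtype_apply, LinearMap.flip_apply, ← hge]
          abel
        right_inv := fun x => by
          obtain ⟨a, c, h⟩ := x
          have hPe : P e = 0 := Subtype.ext (by simp [P, cx, cy, hed, hee])
          have hPd : P d = 0 := Subtype.ext (by simp [P, cx, cy, hdd, hde])
          have hPw : ∀ w : W, P (w : V) = w := fun w => Subtype.ext (by simp [P, cx, cy, hW w])
          refine Prod.ext ?_ (Prod.ext ?_ (Subtype.ext (LinearMap.ext fun w => ?_)))
          · simp [cx, cy, hPe, hdd, hde, hed, hee, hW c]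
          · simp [hPe, map_add, hPd, hPw, cx, cy, hed, hee]
          · simp [hPd, hPw, cx, cy, hW w] }
    rw [Nat.card_congr key, Nat.card_prod, Nat.card_prod, hcard, Nat.card_eq_fintype_card (α := F),
      Module.natCard_eq_pow_finrank (K := F) (V := W), hk, Nat.card_eq_fintype_card (α := F)]
    ring
  · left
    have hdd1 : β d d = 1 := by
      have h := hd d
      rw [sq] at h
      exact (mul_left_eq_self₀.1 h.symm).resolve_right hdd
    let W : Submodule F V := LinearMap.ker (β.flip d)
    have hW : ∀ w : W, β (w : V) d = 0 ∧ β d (w : V) = 0 := fun w => by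
      have h1 : β (w : V) d = 0 := w.2
      exact ⟨h1, by rw [hS]; exact h1⟩
    have hww : ∀ w : W, β (w : V) w = 0 := fun w => by rw [hd, (hW w).1]; simp
    let cd : V →ₗ[F] F := β.flip d
    let P : V →ₗ[F] W := LinearMap.codRestrict W (LinearMap.id - cd.smulRight d) fun v => by
      simp [W, cd, hdd1]
    have hP : ∀ v, (P v : V) = v - cd v • d := fun v => rfl
    have hPd : P d = 0 := Subtype.ext (by rw [hP]; simp [cd, hdd1])
    have hPw : ∀ w : W, P (w : V) = w := fun w => Subtype.ext (by rw [hP]; simp [cd, hW w])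
    have hdec : ∀ v, v = cd v • d + (P v : V) := fun v => by rw [hP]; abel
    let E : (F × W) ≃ₗ[F] V :=
      { toFun := fun p => p.1 • d + (p.2 : V)
        invFun := fun v => (cd v, P v)
        map_add' := fun p p' => by simp only [Prod.fst_add, Prod.snd_add, Submodule.coe_add, add_smul]; abel
        map_smul' := fun c p => by simp [smul_add, smul_smul]
        left_inv := fun p => by
          refine Prod.ext ?_ (Subtype.ext ?_) <;> simp [cd, hPd, hPw, hdd1, hW p.2]
        right_inv := fun v => (hdec v).symm }
    let β' : LinearMap.BilinForm F W := β.compl₁₂ W.subtype W.subtype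
    have hB' : ∀ w, (∀ w', β' w w' = 0) → w = 0 := fun w h => Subtype.ext (hB _ fun v => by
      rw [hdec v, map_add, map_smul, (hW w).1]
      simpa [β'] using h (P v))
    obtain ⟨k, hk, hcard⟩ := card_liso_alt β' (fun w => hww w) hB'
    refine ⟨k, by rw [← E.finrank_eq, Module.finrank_prod, Module.finrank_self, hk]; omega, ?_⟩
    rw [← hcard]
    have hinv : ∀ (g : LIso β) (w : W), g.1 (w : V) ∈ W := fun g w => by
      show β (g.1 (w : V)) d = 0
      rw [← hfix g, g.2]; exact (hW w).1
    exact Nat.card_congr
      { toFun := fun g => ⟨LinearMap.codRestrict W (g.1 ∘ₗ W.subtype) (hinv g), fun u v => g.2 _ _⟩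
        invFun := fun h => ⟨cd.smulRight d + W.subtype ∘ₗ h.1 ∘ₗ P, fun u v => by
          have hh := h.2 (P u) (P v)
          simp only [β', LinearMap.compl₁₂_apply, Submodule.subtype_apply] at hh
          conv_rhs => rw [hdec u, hdec v]
          simp [hdd1, hW (h.1 (P u)), hW (h.1 (P v)), hW (P u), hW (P v), hh]⟩
        left_inv := fun g => by
          refine Subtype.ext (LinearMap.ext fun v => ?_)
          conv_rhs => rw [hdec v, map_add, map_smul, hfix g]
          simp
          rfl
        right_inv := fun h => by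
          refine Subtype.ext (LinearMap.ext fun w => Subtype.ext ?_)
          show β (w : V) d • d + ((h.1 (P (w : V)) : W) : V) = (h.1 w : V)
          simp [hPw, hW w] }

end CfsgLib.KnownSimple.CharTwoInv
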